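import Cfsg.Agent.H920.FC.HSide

/-!
# S5764 [B-C4U]: the two cases (helper920)

`good_one`: first factor of dimension at least 3; `good_two`: both factors of dimension 2, odd characteristic.
-/

set_option autoImplicit false
set_option linter.unusedSectionVars false

namespace Cfsg.Agent.H920.FC

open Matrix Cfsg.Agent.H198.FC
open scoped Kronecker

universe u v

section gen

variable {K : Type*} [Field K] [Finite K]

/-- a generator of the multiplicative group -/
theorem exists_gen : ∃ ω : K, ω ≠ 0 ∧ ∀ σ : K ≃+* K, σ ω = ω → σ = RingEquiv.refl K := by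
  obtain ⟨g, hg⟩ := IsCyclic.exists_generator (α := Kˣ)
  refine ⟨(g : K), g.ne_zero, fun σ hσ => ?_⟩
  ext x
  by_cases hx : x = 0
  · rw [hx, map_zero, map_zero]
  · obtain ⟨n, hn⟩ := Subgroup.mem_zpowers_iff.1 (hg (Units.mk0 x hx))
    have e : x = (g : K) ^ n := by
      rw [← Units.val_zpow_eq_zpow_val, hn]
      rfl
    rw [e, map_zpow₀, hσ]
    rfl

end gen

section one

variable {K : Type*} [Field K] {J : Type*} [Fintype J] [DecidableEq J]

theorem good_one {u : ℕ} (hu : 3 ≤ u) {ω ω' : K} (hgen : ∀ σ : K ≃+* K, σ ω = ω → σ = RingEquiv.refl K)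
    {h : Fin 4 → Matrix J J K} (hG : ∀ G : Matrix J J K, (∀ i, G * h i = h i * G) → ∃ k : K, G = k • 1) :
    Good (BA hu ω ω') h := by
  intro fa fc σ hfa hfc hsa hsc hrel
  choose c β hc hfix hrel using hrel
  obtain ⟨c1, hσ, hfa1⟩ := sideA hu hgen hfa hsa hc hrel
  exact ⟨hfa1, sideC hG hfc (fun k X => by rw [hsc, hσ]; rfl) (fun i => by rw [hfix, c1, one_smul])⟩

theorem BA_herm {u : ℕ} (hu : 3 ≤ u) {τ : K ≃+* K} (hτ2 : ∀ a, τ (τ a) = a) (ω : K) (i : Fin 4) :
    ((BA hu ω (τ ω) i).map τ)ᵀ = BA hu ω (τ ω) i := by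
  have hs : ∀ (x y : Fin u) (a : K), ((single x y a).map τ)ᵀ = single y x (τ a) := by
    intro x y a
    ext i j
    simp only [transpose_apply, map_apply, single_apply]
    by_cases h : x = j ∧ y = i
    · rw [if_pos h, if_pos h.symm]
    · rw [if_neg h, if_neg (fun h' => h h'.symm), map_zero]
  have hadd : ∀ M N : Matrix (Fin u) (Fin u) K, ((M + N).map τ)ᵀ = (M.map τ)ᵀ + (N.map τ)ᵀ := by
    intro M N
    ext i j
    simp
  have hP : ((pth K u).map τ)ᵀ = pth K u := by rw [pth_map, pth_transpose]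
  fin_cases i
  · change ((single _ _ (1 : K)).map τ)ᵀ = single _ _ (1 : K)
    rw [hs, map_one]
  · exact hP
  · change ((pth K u + single _ _ (1 : K)).map τ)ᵀ = pth K u + single _ _ (1 : K)
    rw [hadd, hP, hs, map_one]
  · change ((single _ _ (1 : K) + ω • single _ _ (1 : K) + τ ω • single _ _ (1 : K)).map τ)ᵀ =
      single _ _ (1 : K) + ω • single _ _ (1 : K) + τ ω • single _ _ (1 : K)
    simp only [smul_single, smul_eq_mul, mul_one]
    rw [hadd, hadd, hs, hs, hs, hτ2, map_one]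
    abel

theorem BA_ne {u : ℕ} (hu : 3 ≤ u) {ω ω' : K} (hω : ω ≠ 0) (i : Fin 4) (k : K) : BA hu ω ω' i ≠ k • 1 := by
  set e0 : Fin u := Fin.castLE hu 0 with he0
  set e1 : Fin u := Fin.castLE hu 1 with he1
  have h01 : e0 ≠ e1 := (Fin.castLE_injective hu).ne (by decide)
  have hP01 : pth K u e0 e1 = 1 := by
    rw [pth_apply, if_pos]
    left
    simp [he0, he1]
  intro h
  fin_cases i
  · have h' : single e0 e0 (1 : K) = k • 1 := h
    have h1 := congrFun (congrFun h' e0) e0
    have h2 := congrFun (congrFun h' e1) e1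
    simp only [Matrix.smul_apply, smul_eq_mul, one_apply_eq, mul_one, single_apply_same,
      single_apply_of_row_ne h01] at h1 h2
    exact one_ne_zero (h1.trans h2.symm)
  · have h' : pth K u = k • 1 := h
    have h1 := congrFun (congrFun h' e0) e1
    rw [hP01, Matrix.smul_apply, one_apply_ne h01, smul_zero] at h1
    exact one_ne_zero h1
  · have h' : pth K u + single e0 e0 (1 : K) = k • 1 := h
    have h1 := congrFun (congrFun h' e0) e1
    rw [Matrix.add_apply, hP01, Matrix.smul_apply, one_apply_ne h01, smul_zero, single_apply_of_col_ne _ _ h01,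
      add_zero] at h1
    exact one_ne_zero h1
  · have h' : single e0 e0 (1 : K) + ω • single e0 e1 1 + ω' • single e1 e0 1 = k • 1 := h
    have h1 := congrFun (congrFun h' e0) e1
    simp only [Matrix.add_apply, Matrix.smul_apply, smul_eq_mul, one_apply_ne h01, mul_one, single_apply_same,
      single_apply_of_row_ne h01.symm, single_apply_of_col_ne _ _ h01, mul_zero, zero_add, add_zero] at h1
    exact hω h1

end one

section two

variable {K : Type*} [Field K]

/-- the properties of the matrices on the second factor of dimension 2 -/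
structure HTwo (τ : K ≃+* K) (h1 h2 h3 e : Matrix (Fin 2) (Fin 2) K) (κ : K) : Prop where
  s1 : h1 * h1 = 0
  s2 : h2 * h2 = 0
  s3 : h3 * h3 = 0
  n1 : h1 ≠ 0
  n2 : h2 ≠ 0
  n3 : h3 ≠ 0
  k1 : (h1.map τ)ᵀ = -h1
  k2 : (h2.map τ)ᵀ = -h2
  k3 : (h3.map τ)ᵀ = -h3
  κ0 : κ ≠ 0
  e0 : e ≠ 0
  ee : e * e = e
  r1 : h1 * h2 = κ • e
  r2 : e * h3 * e = e
  r3 : e * h3 * (1 - e) = h1
  comm : ∀ G, G * h1 = h1 * G → G * h2 = h2 * G → ∃ k : K, G = k • 1

theorem exists_hTwo [Finite K] {τ : K ≃+* K} (hτ : ∃ a, τ a ≠ a) (hτ2 : ∀ a, τ (τ a) = a) :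
    ∃ h1 h2 h3 e κ, HTwo τ h1 h2 h3 e κ := by
  obtain ⟨ε, hε0, hε⟩ := exists_eps hτ hτ2
  have hε' : τ ε⁻¹ = -ε⁻¹ := by rw [map_inv₀, hε, inv_neg]
  obtain ⟨Θ, hΘ⟩ := exists_theta (X := Fin 2) (J := Fin 2) hτ hτ2 rfl (S := !![0, 1; 1, 0])
    (by ext i j; fin_cases i <;> fin_cases j <;> simp)
    (by ext i j; fin_cases i <;> fin_cases j <;> simp)
    (by ext i j; fin_cases i <;> fin_cases j <;> simp)
  have hne : ∀ {M : Matrix (Fin 2) (Fin 2) K}, M ≠ 0 → Θ M ≠ 0 := fun hM h => hM (Θ.injective (by rw [h, map_zero]))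
  refine ⟨Θ !![0, ε; 0, 0], Θ !![0, 0; ε, 0], Θ !![1, ε; -ε⁻¹, -1], Θ !![1, 0; 0, 0], ε * ε, ?_⟩
  constructor
  · rw [← map_mul, ← map_zero Θ]
    congr 1
    ext i j; fin_cases i <;> fin_cases j <;> simp
  · rw [← map_mul, ← map_zero Θ]
    congr 1
    ext i j; fin_cases i <;> fin_cases j <;> simp
  · rw [← map_mul, ← map_zero Θ]
    congr 1
    ext i j; fin_cases i <;> fin_cases j <;> simp [hε0]
  · exact hne fun h => hε0 (by simpa using congrFun (congrFun h 0) 1)
  · exact hne fun h => hε0 (by simpa using congrFun (congrFun h 1) 0)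
  · exact hne fun h => hε0 (by simpa using congrFun (congrFun h 0) 1)
  · refine hΘ _ ?_
    ext i j; fin_cases i <;> fin_cases j <;> simp [hε, mul_apply]
  · refine hΘ _ ?_
    ext i j; fin_cases i <;> fin_cases j <;> simp [hε, mul_apply]
  · refine hΘ _ ?_
    ext i j; fin_cases i <;> fin_cases j <;> simp [hε, hε', mul_apply]
  · exact mul_ne_zero hε0 hε0
  · exact hne fun h => one_ne_zero (α := K) (by simpa using congrFun (congrFun h 0) 0)
  · rw [← map_mul]
    congr 1
    ext i j; fin_cases i <;> fin_cases j <;> simp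
  · rw [← map_mul, ← map_smul]
    congr 1
    ext i j; fin_cases i <;> fin_cases j <;> simp
  · rw [← map_mul, ← map_mul]
    congr 1
    ext i j; fin_cases i <;> fin_cases j <;> simp
  · rw [← map_one Θ, ← map_sub, ← map_mul, ← map_mul, Matrix.one_fin_two]
    congr 1
    ext i j; fin_cases i <;> fin_cases j <;> simp [mul_apply]
  · intro G g1 g2
    obtain ⟨H, rfl⟩ := Θ.surjective G
    rw [← map_mul, ← map_mul] at g1 g2
    have g1' := Θ.injective g1
    have g2' := Θ.injective g2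
    refine ⟨H 0 0, ?_⟩
    rw [← map_one Θ, ← map_smul]
    congr 1
    have a1 := congrFun (congrFun g1' 0) 1
    have a2 := congrFun (congrFun g1' 0) 0
    have a3 := congrFun (congrFun g2' 0) 0
    simp [mul_apply, hε0] at a1 a2 a3
    ext i j; fin_cases i <;> fin_cases j <;> simp [a2, a3]
    exact mul_left_cancel₀ hε0 (by rw [← a1, mul_comm])

/-- the matrices on the first factor of dimension 2 -/
def BB (ω ω' : K) : Fin 4 → Matrix (Fin 2) (Fin 2) K :=
  ![single 0 0 1, single 0 0 1, pth K 2, ω • single 0 1 1 + ω' • single 1 0 1]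

theorem good_two (h2 : (2 : K) ≠ 0) {τ : K ≃+* K} {h1 h2' h3 e : Matrix (Fin 2) (Fin 2) K} {κ : K}
    (H : HTwo τ h1 h2' h3 e κ) {ω ω' : K} (hgen : ∀ σ : K ≃+* K, σ ω = ω → σ = RingEquiv.refl K) :
    Good (BB ω ω') ![h1, h2', h3, h1] := by
  intro fa fc σ hfa hfc hsa hsc hrel
  obtain ⟨c0, β0, hc0, f0, q0⟩ := hrel 0
  obtain ⟨c1, β1, hc1, f1, q1⟩ := hrel 1
  obtain ⟨c2, β2, hc2, f2, q2⟩ := hrel 2
  obtain ⟨c3, β3, hc3, f3, q3⟩ := hrel 3
  replace f0 : fc h1 = c0 • h1 := f0
  replace f1 : fc h2' = c1 • h2' := f1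
  replace f2 : fc h3 = c2 • h3 := f2
  replace f3 : fc h1 = c3 • h1 := f3
  replace q0 : c0 • fa (single 0 0 1) = single 0 0 1 + β0 • 1 := q0
  replace q1 : c1 • fa (single 0 0 1) = single 0 0 1 + β1 • 1 := q1
  replace q2 : c2 • fa (pth K 2) = pth K 2 + β2 • 1 := q2
  replace q3 : c3 • fa (ω • single 0 1 1 + ω' • single 1 0 1) = ω • single 0 1 1 + ω' • single 1 0 1 + β3 • 1 := q3
  have h01 : (0 : Fin 2) ≠ 1 := by decide
  have hEne : (single 0 0 1 : Matrix (Fin 2) (Fin 2) K) ≠ 1 - single 0 0 1 := by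
    intro h
    have := congrFun (congrFun h 0) 0
    simp at this
  have hcc : c0 * c1 = 1 := by
    rcases idem_rel h01 hc0 q0 with h | h <;> rcases idem_rel h01 hc1 q1 with h' | h'
    · rw [h.1, h'.1, one_mul]
    · exact absurd (h.2.2.symm.trans h'.2.2) hEne
    · exact absurd (h'.2.2.symm.trans h.2.2) hEne
    · rw [h.1, h'.1]; ring
  have hκ : σ κ • fc e = κ • e := by
    rw [← hsc, ← H.r1, map_mul, f0, f1, smul_mul_smul_comm, hcc, one_smul]
  have hσκ : σ κ ≠ 0 := (map_ne_zero σ).2 H.κ0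
  have hfe : fc e = ((σ κ)⁻¹ * κ) • e := by
    rw [mul_smul, ← hκ, smul_smul, inv_mul_cancel₀ hσκ, one_smul]
  set ρ := (σ κ)⁻¹ * κ with hρ
  have hρ0 : ρ ≠ 0 := mul_ne_zero (inv_ne_zero hσκ) H.κ0
  have hρ1 : ρ = 1 := by
    have h5 : (ρ * ρ) • e = ρ • e := by
      rw [← hfe]
      conv_rhs => rw [← H.ee, map_mul, hfe, smul_mul_smul_comm, H.ee]
    have h6 := smul_left_injective K H.e0 h5
    exact mul_left_cancel₀ hρ0 (by rw [h6, mul_one])
  rw [hρ1, one_smul] at hfe
  have hc2' : c2 = 1 := by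
    have h5 : fc (e * h3 * e) = e := by rw [H.r2, hfe]
    rw [map_mul, map_mul, hfe, f2, mul_smul_comm, smul_mul_assoc, H.r2] at h5
    exact smul_left_injective K H.e0 (by simpa using h5)
  rw [hc2', one_smul] at f2 q2
  have hfh1 : fc h1 = h1 := by
    rw [← H.r3, map_mul, map_mul, map_sub, map_one, hfe, f2]
  have hc0' : c0 = 1 := by
    rw [f0] at hfh1
    exact smul_left_injective K H.n1 (by simpa using hfh1)
  have hc3' : c3 = 1 := by
    rw [f3] at hfh1
    exact smul_left_injective K H.n1 (by simpa using hfh1)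
  have hc1' : c1 = 1 := by rw [hc0', one_mul] at hcc; exact hcc
  have hfE : fa (single 0 0 1) = single 0 0 1 := by
    rcases idem_rel h01 hc0 q0 with h | h
    · exact h.2.2
    · exfalso
      apply h2
      have := h.1.symm.trans hc0'
      linear_combination -this
  have hfP : fa (pth K 2) = pth K 2 := by
    have := corner hfE hsa (c := 1) (β := β2) (M := pth K 2) (by rw [one_smul, q2])
    have e0 : pth K 2 0 0 = 0 := by rw [pth_apply, if_neg]; simp
    rw [e0, map_zero, mul_zero, zero_add] at this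
    rw [q2, ← this, zero_smul, add_zero]
  have hfix : ∀ x y, fa (single x y 1) = single x y 1 := pth_fix (by norm_num) hfE hfP
  rw [hc3', one_smul, map_add, hsa, hsa, hfix, hfix] at q3
  have hσ : σ = RingEquiv.refl K := by
    refine hgen σ ?_
    have := congrFun (congrFun q3 0) 1
    simpa using this
  refine ⟨fix_all (fun k M => by rw [hsa, hσ]; rfl) hfix, ?_⟩
  refine sideC (h := ![h1, h2']) (fun G hG => H.comm G (hG 0) (hG 1)) hfc (fun k X => by rw [hsc, hσ]; rfl) (fun i => ?_)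
  fin_cases i
  · exact hfh1
  · change fc h2' = h2'
    rw [f1, hc1', one_smul]

end two

end Cfsg.Agent.H920.FC
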