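import Cfsg.Agent.H195.FC.NormU
import Cfsg.Agent.H786.FC.PartsC4
import Cfsg.Agent.H920.FC.Cases

/-!
# S5764 [B-C4U]: tensor decompositions of unitary spaces (helper920)
-/

set_option autoImplicit false
set_option linter.unusedSectionVars false

namespace Cfsg.Agent.H920.FC

open Matrix Cfsg.Agent.H198.FC
open scoped Kronecker

universe u v

section cases

variable {K : Type u} [Field K] [Finite K] {V : Type v} [AddCommGroup V] [Module K V] [Module.Finite K V]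

theorem adj_kron {I J : Type*} [Fintype I] [DecidableEq I] [Fintype J] [DecidableEq J] {b : Cl K V}
    (Ψ : Matrix (I × J) (I × J) K ≃ₐ[K] R K V) (hadj : ∀ X, b.Adj (Ψ X) (Ψ ((X.map b.τ)ᵀ)))
    {B : Matrix I I K} {h : Matrix J J K} (hB : (B.map b.τ)ᵀ = B) (hh : (h.map b.τ)ᵀ = -h) :
    b.Adj (Ψ (B ⊗ₖ h)) (-Ψ (B ⊗ₖ h)) := by
  have h1 := hadj (B ⊗ₖ h)
  have e : ((B ⊗ₖ h).map b.τ)ᵀ = -(B ⊗ₖ h) := by
    ext ⟨i, j⟩ ⟨k, l⟩
    have e1 := congrFun (congrFun hB i) k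
    have e2 := congrFun (congrFun hh j) l
    simp only [transpose_apply, map_apply, Matrix.neg_apply] at e1 e2
    simp only [transpose_apply, map_apply, kroneckerMap_apply, Matrix.neg_apply, map_mul, e1, e2]
    ring
  rwa [e, map_neg] at h1

theorem single_ct {X : Type*} [DecidableEq X] (τ : K ≃+* K) (x y : X) (a : K) :
    ((single x y a).map τ)ᵀ = single y x (τ a) := by
  ext i j
  simp only [transpose_apply, map_apply, single_apply]
  by_cases h : x = j ∧ y = i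
  · rw [if_pos h, if_pos h.symm]
  · rw [if_neg h, if_neg (fun h' => h h'.symm), map_zero]

theorem fiveB_one {b : Cl K V} (hU : b.IsU) (hn : 1 ≤ Module.finrank K V) {u : ℕ} (hu : 3 ≤ u)
    {J : Type*} [Fintype J] [DecidableEq J] (hJ : 2 ≤ Fintype.card J)
    (Ψ : Matrix (Fin u × J) (Fin u × J) K ≃ₐ[K] R K V) (hadj : ∀ X, b.Adj (Ψ X) (Ψ ((X.map b.τ)ᵀ)))
    {S : Subgroup (Equiv.Perm (R K V))} (hS : S ≤ RB b)
    (hA : ∀ f ∈ S, ∀ B : Matrix (Fin u) (Fin u) K, ∃ B' : Matrix (Fin u) (Fin u) K,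
      f (Ψ (B ⊗ₖ (1 : Matrix J J K))) = Ψ (B' ⊗ₖ (1 : Matrix J J K))) : FiveB b S := by
  have : Nonempty (Fin u) := ⟨⟨0, by omega⟩⟩
  have : Nonempty J := Fintype.card_pos_iff.1 (by omega)
  obtain ⟨h, h1, h2, h3, h4⟩ := exists_h hU.1 b.invol hJ
  obtain ⟨ω, hω, hgen⟩ := exists_gen (K := K)
  exact fiveB_of_good b hn Ψ hS hA (BA hu ω (b.τ ω)) h (fun i k => BA_ne hu hω i k) h1 h2
    (fun i => adj_kron Ψ hadj (BA_herm hu b.invol ω i) (h3 i)) (good_one hu hgen h4)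

theorem fiveB_two {b : Cl K V} (hU : b.IsU) (hn : 1 ≤ Module.finrank K V) (h2 : (2 : K) ≠ 0)
    (Ψ : Matrix (Fin 2 × Fin 2) (Fin 2 × Fin 2) K ≃ₐ[K] R K V) (hadj : ∀ X, b.Adj (Ψ X) (Ψ ((X.map b.τ)ᵀ)))
    {S : Subgroup (Equiv.Perm (R K V))} (hS : S ≤ RB b)
    (hA : ∀ f ∈ S, ∀ B : Matrix (Fin 2) (Fin 2) K, ∃ B' : Matrix (Fin 2) (Fin 2) K,
      f (Ψ (B ⊗ₖ (1 : Matrix (Fin 2) (Fin 2) K))) = Ψ (B' ⊗ₖ (1 : Matrix (Fin 2) (Fin 2) K))) : FiveB b S := by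
  obtain ⟨h1, h2', h3, e, κ, H⟩ := exists_hTwo hU.1 b.invol
  obtain ⟨ω, hω, hgen⟩ := exists_gen (K := K)
  have hherm : ∀ i, ((BB ω (b.τ ω) i).map b.τ)ᵀ = BB ω (b.τ ω) i := by
    intro i
    fin_cases i
    · change ((single 0 0 (1 : K)).map b.τ)ᵀ = single 0 0 (1 : K)
      rw [single_ct, map_one]
    · change ((single 0 0 (1 : K)).map b.τ)ᵀ = single 0 0 (1 : K)
      rw [single_ct, map_one]
    · change ((pth K 2).map b.τ)ᵀ = pth K 2
      rw [pth_map, pth_transpose]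
    · change (((ω • single 0 1 (1 : K) + b.τ ω • single 1 0 (1 : K) : Matrix (Fin 2) (Fin 2) K)).map b.τ)ᵀ =
        (ω • single 0 1 (1 : K) + b.τ ω • single 1 0 (1 : K) : Matrix (Fin 2) (Fin 2) K)
      simp only [smul_single, smul_eq_mul, mul_one]
      have e : ∀ M N : Matrix (Fin 2) (Fin 2) K, ((M + N).map b.τ)ᵀ = (M.map b.τ)ᵀ + (N.map b.τ)ᵀ := by
        intro M N
        ext i j
        simp
      rw [e, single_ct, single_ct, b.invol, add_comm]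
  have hne : ∀ i (k : K), BB ω (b.τ ω) i ≠ k • 1 := by
    intro i k h
    fin_cases i
    · have h' : (single 0 0 1 : Matrix (Fin 2) (Fin 2) K) = k • 1 := h
      have a1 := congrFun (congrFun h' 0) 0
      have a2 := congrFun (congrFun h' 1) 1
      simp at a1 a2
      exact one_ne_zero (a1.trans a2.symm)
    · have h' : (single 0 0 1 : Matrix (Fin 2) (Fin 2) K) = k • 1 := h
      have a1 := congrFun (congrFun h' 0) 0
      have a2 := congrFun (congrFun h' 1) 1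
      simp at a1 a2
      exact one_ne_zero (a1.trans a2.symm)
    · have h' : pth K 2 = k • 1 := h
      have a1 := congrFun (congrFun h' 0) 1
      simp [pth_apply] at a1
    · have h' : ω • single 0 1 (1 : K) + b.τ ω • single 1 0 (1 : K) = k • (1 : Matrix (Fin 2) (Fin 2) K) := h
      have a1 := congrFun (congrFun h' 0) 1
      simp at a1
      exact hω a1
  refine fiveB_of_good b hn Ψ hS hA (BB ω (b.τ ω)) ![h1, h2', h3, h1] hne (fun i => ?_) (fun i => ?_)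
    (fun i => adj_kron Ψ hadj (hherm i) ?_) (good_two h2 H hgen)
  · fin_cases i
    exacts [H.s1, H.s2, H.s3, H.s1]
  · fin_cases i
    exacts [H.n1, H.n2, H.n3, H.n1]
  · fin_cases i
    exacts [H.k1, H.k2, H.k3, H.k1]

/-- the two factors exchanged -/
noncomputable def swp {I J : Type*} [Fintype I] [DecidableEq I] [Fintype J] [DecidableEq J]
    (Ψ : Matrix (I × J) (I × J) K ≃ₐ[K] R K V) : Matrix (J × I) (J × I) K ≃ₐ[K] R K V :=
  (Matrix.reindexAlgEquiv K K (Equiv.prodComm J I)).trans Ψ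

theorem swp_kron {I J : Type*} [Fintype I] [DecidableEq I] [Fintype J] [DecidableEq J]
    (Ψ : Matrix (I × J) (I × J) K ≃ₐ[K] R K V) (C : Matrix J J K) (B : Matrix I I K) :
    swp Ψ (C ⊗ₖ B) = Ψ (B ⊗ₖ C) := by
  change Ψ (Matrix.reindexAlgEquiv K K (Equiv.prodComm J I) (C ⊗ₖ B)) = _
  congr 1
  ext ⟨i, j⟩ ⟨k, l⟩
  simp [kroneckerMap_apply, mul_comm]

/-- **tensor decompositions of unitary spaces**; the only case left out is `2 ⊗ 2` in characteristic 2 -/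
theorem fiveB_tensor {b : Cl K V} (hU : b.IsU) (hn : 1 ≤ Module.finrank K V) {S : Subgroup (Equiv.Perm (R K V))}
    (hS : S ≤ RB b) {u' y : ℕ} (Φ : Matrix (Fin u' × Fin y) (Fin u' × Fin y) K ≃ₐ[K] R K V) (hu : 2 ≤ u') (hy : 2 ≤ y)
    (h2 : u' = 2 → y = 2 → (2 : K) ≠ 0)
    (hadj : ∀ B : Matrix (Fin u') (Fin u') K, ∃ B' : Matrix (Fin u') (Fin u') K,
      b.Adj (Φ (B ⊗ₖ (1 : Matrix (Fin y) (Fin y) K))) (Φ (B' ⊗ₖ (1 : Matrix (Fin y) (Fin y) K))))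
    (hA : ∀ f ∈ S, ∀ B : Matrix (Fin u') (Fin u') K, ∃ B' : Matrix (Fin u') (Fin u') K,
      f (Φ (B ⊗ₖ (1 : Matrix (Fin y) (Fin y) K))) = Φ (B' ⊗ₖ (1 : Matrix (Fin y) (Fin y) K))) : FiveB b S := by
  have : Nonempty (Fin u') := ⟨⟨0, by omega⟩⟩
  have : Nonempty (Fin y) := ⟨⟨0, by omega⟩⟩
  obtain ⟨Ψ, h1, h3, hΨ⟩ := Cfsg.Agent.H195.FC.exists_nf b hU Φ hadj
  have hA' : ∀ f ∈ S, ∀ B : Matrix (Fin u') (Fin u') K, ∃ B' : Matrix (Fin u') (Fin u') K,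
      f (Ψ (B ⊗ₖ (1 : Matrix (Fin y) (Fin y) K))) = Ψ (B' ⊗ₖ (1 : Matrix (Fin y) (Fin y) K)) := by
    intro f hf B
    obtain ⟨B1, hB1⟩ := h3 B
    obtain ⟨B2, hB2⟩ := hA f hf B1
    obtain ⟨B3, hB3⟩ := h1 B2
    exact ⟨B3, by rw [hB1, hB2, hB3]⟩
  by_cases hu3 : 3 ≤ u'
  · exact fiveB_one hU hn hu3 (by simpa using hy) Ψ hΨ hS hA'
  by_cases hy3 : 3 ≤ y
  · refine fiveB_one hU hn hy3 (J := Fin u') (by simpa using hu) (swp Ψ) (fun X => ?_) hS (fun f hf C => ?_)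
    · have e : swp Ψ ((X.map b.τ)ᵀ) =
          Ψ (((Matrix.reindexAlgEquiv K K (Equiv.prodComm (Fin y) (Fin u')) X).map b.τ)ᵀ) := rfl
      rw [e]
      exact hΨ _
    · obtain ⟨C', hC'⟩ := stab_right Ψ (hS hf).1 (hA' f hf) C
      exact ⟨C', by rw [swp_kron, swp_kron, hC']⟩
  · obtain rfl : u' = 2 := by omega
    obtain rfl : y = 2 := by omega
    exact fiveB_two hU hn (h2 rfl rfl) Ψ hΨ hS hA'

end cases

/-- **5392** -/
theorem stmtBC4nK : Cfsg.Agent.H786.FC.StmtBC4nK.{u, v} true := by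
  intro K _ _ V _ _ _ b hk hb S hS _ u' y Φ hu hy hu0 hadj hA
  have hn : 1 ≤ Module.finrank K V := by
    rcases hb with h | h
    · exact le_trans (by norm_num) h.2.1
    · exact le_trans (by norm_num) h.2.1
  refine fiveB_tensor (hk.1 rfl) hn hS Φ hu hy (fun h _ => ?_) hadj hA
  subst h
  exact_mod_cast hu0

end Cfsg.Agent.H920.FC
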