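import Cfsg.Agent.H920.FC.Red

/-!
# S5764 [B-C4U]: the path matrix and the first tensor factor (helper920)

`pth K m` the adjacency matrix of the path with `m` vertices.  `path_mem`: a column generates the others.
`sideA`: for `B = (E₀₀, P, P + E₀₀, E₀₀ + ω E₀₁ + ω' E₁₀)` and dimension at least 3, the relations
`c_i fa B_i = B_i + β_i` force `fa = 1`, `σ = 1`, `c_i = 1`.
-/

set_option autoImplicit false
set_option linter.unusedSectionVars false

namespace Cfsg.Agent.H920.FC

open Matrix
open scoped Kronecker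

section path

variable (K : Type*) [Field K]

/-- the path matrix -/
def pth (m : ℕ) : Matrix (Fin m) (Fin m) K := Matrix.of fun i j => if (i : ℕ) + 1 = j ∨ (j : ℕ) + 1 = i then 1 else 0

variable {K}

theorem pth_apply {m : ℕ} (i j : Fin m) : pth K m i j = if (i : ℕ) + 1 = j ∨ (j : ℕ) + 1 = i then 1 else 0 := rfl

theorem pth_symm {m : ℕ} (i j : Fin m) : pth K m i j = pth K m j i := by
  rw [pth_apply, pth_apply]
  congr 1
  exact propext or_comm

theorem pth_transpose (m : ℕ) : (pth K m)ᵀ = pth K m := by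
  ext i j
  rw [transpose_apply, pth_symm]

theorem pth_map {m : ℕ} (τ : K ≃+* K) : (pth K m).map τ = pth K m := by
  ext i j
  rw [map_apply, pth_apply]
  split_ifs
  · rw [map_one]
  · rw [map_zero]

variable {M : Type*} [AddCommGroup M] [Module K M]

theorem pth_sum_succ {m : ℕ} (f : Fin m → M) (i : ℕ) (h : i + 2 < m) :
    ∑ k, pth K m k ⟨i + 1, by omega⟩ • f k = f ⟨i + 2, h⟩ + f ⟨i, by omega⟩ := by
  rw [Finset.sum_eq_add (⟨i + 2, h⟩ : Fin m) (⟨i, by omega⟩ : Fin m)]
  · rw [pth_apply, if_pos (Or.inr rfl), pth_apply, if_pos (Or.inl rfl), one_smul, one_smul]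
  · intro h'
    have := congrArg Fin.val h'
    simp at this
  · rintro k - ⟨h1, h2⟩
    rw [pth_apply, if_neg, zero_smul]
    rintro (h3 | h3)
    · exact h2 (Fin.ext (by simpa using h3))
    · exact h1 (Fin.ext (by simpa using h3.symm))
  · intro h'
    exact absurd (Finset.mem_univ _) h'
  · intro h'
    exact absurd (Finset.mem_univ _) h'

theorem pth_sum_zero {m : ℕ} (f : Fin m → M) (h : 1 < m) :
    ∑ k, pth K m k ⟨0, by omega⟩ • f k = f ⟨1, h⟩ := by
  rw [Finset.sum_eq_single (⟨1, h⟩ : Fin m)]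
  · rw [pth_apply, if_pos (Or.inr rfl), one_smul]
  · rintro k - h1
    rw [pth_apply, if_neg, zero_smul]
    rintro (h3 | h3)
    · simp at h3
    · exact h1 (Fin.ext (by simpa using h3.symm))
  · intro h'
    exact absurd (Finset.mem_univ _) h'

/-- the columns are obtained from the first one -/
theorem path_mem {m : ℕ} (𝓢 : AddSubgroup M) (L : M → M) (hL : ∀ x ∈ 𝓢, L x ∈ 𝓢) (f : Fin m → M)
    (hf : ∀ i, L (f i) = ∑ k, pth K m k i • f k) (h0 : ∀ h : 0 < m, f ⟨0, h⟩ ∈ 𝓢) : ∀ i, f i ∈ 𝓢 := by
  have h1 : ∀ i, ∀ h : i < m, f ⟨i, h⟩ ∈ 𝓢 := by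
    intro i
    induction i using Nat.strong_induction_on with
    | _ i ih =>
      intro h
      rcases i with _ | _ | i
      · exact h0 h
      · rw [← pth_sum_zero (K := K) f h, ← hf]
        exact hL _ (h0 (by omega))
      · have h2 := pth_sum_succ (K := K) f i h
        rw [← hf] at h2
        have h3 : f ⟨i + 2, h⟩ = L (f ⟨i + 1, by omega⟩) - f ⟨i, by omega⟩ := by rw [h2]; abel
        rw [h3]
        exact sub_mem (hL _ (ih (i + 1) (by omega) (by omega))) (ih i (by omega) (by omega))
  intro i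
  exact h1 i.1 i.2

end path

section side

variable {K : Type*} [Field K]

theorem sandwich {X : Type*} [Fintype X] [DecidableEq X] (x : X) (M : Matrix X X K) :
    single x x (1 : K) * M * single x x (1 : K) = M x x • single x x (1 : K) := by
  rw [single_mul_mul_single, one_mul, mul_one, smul_single, smul_eq_mul, mul_one]

theorem mul_single_eq {X : Type*} [Fintype X] [DecidableEq X] (M : Matrix X X K) (x y : X) :
    M * single x y (1 : K) = ∑ z, M z x • single z y (1 : K) := by
  ext i j
  rw [Matrix.sum_apply]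
  by_cases hj : j = y
  · subst hj
    rw [mul_single_apply_same, mul_one, Finset.sum_eq_single i]
    · simp
    · intro z _ hz
      simp [hz]
    · simp
  · rw [mul_single_apply_of_ne _ _ _ _ _ hj]
    refine (Finset.sum_eq_zero fun z _ => ?_).symm
    simp [Ne.symm hj]

theorem single_mul_eq {X : Type*} [Fintype X] [DecidableEq X] (M : Matrix X X K) (x y : X) :
    single x y (1 : K) * M = ∑ z, M y z • single x z (1 : K) := by
  ext i j
  rw [Matrix.sum_apply]
  by_cases hi : i = x
  · subst hi
    rw [single_mul_apply_same, one_mul, Finset.sum_eq_single j]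
    · simp
    · intro z _ hz
      simp [hz]
    · simp
  · rw [single_mul_apply_of_ne _ _ _ _ _ hi]
    refine (Finset.sum_eq_zero fun z _ => ?_).symm
    simp [Ne.symm hi]

theorem fix_all {X : Type*} [Fintype X] [DecidableEq X] {f : Matrix X X K →+* Matrix X X K}
    (hs : ∀ (k : K) M, f (k • M) = k • f M) (h : ∀ x y, f (single x y 1) = single x y 1) (M : Matrix X X K) :
    f M = M := by
  conv_lhs => rw [matrix_eq_sum_single M]
  conv_rhs => rw [matrix_eq_sum_single M]
  rw [map_sum]
  refine Finset.sum_congr rfl fun x _ => ?_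
  rw [map_sum]
  refine Finset.sum_congr rfl fun y _ => ?_
  have e : single x y (M x y) = M x y • single x y (1 : K) := by rw [smul_single, smul_eq_mul, mul_one]
  rw [e, hs, h]

variable {u : ℕ} (hu : 3 ≤ u)

/-- the four matrices on the first factor -/
def BA (ω ω' : K) : Fin 4 → Matrix (Fin u) (Fin u) K :=
  ![single (Fin.castLE hu 0) (Fin.castLE hu 0) 1, pth K u, pth K u + single (Fin.castLE hu 0) (Fin.castLE hu 0) 1,
    single (Fin.castLE hu 0) (Fin.castLE hu 0) 1 + ω • single (Fin.castLE hu 0) (Fin.castLE hu 1) 1 +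
      ω' • single (Fin.castLE hu 1) (Fin.castLE hu 0) 1]

theorem pth_fix {m : ℕ} (h0 : 0 < m) {f : Matrix (Fin m) (Fin m) K →+* Matrix (Fin m) (Fin m) K}
    (hE : f (single ⟨0, h0⟩ ⟨0, h0⟩ 1) = single ⟨0, h0⟩ ⟨0, h0⟩ 1) (hP : f (pth K m) = pth K m) (x y : Fin m) :
    f (single x y 1) = single x y 1 := by
  let 𝓢 : AddSubgroup (Matrix (Fin m) (Fin m) K) :=
    (f : Matrix (Fin m) (Fin m) K →+ Matrix (Fin m) (Fin m) K).eqLocus (AddMonoidHom.id _)
  have h1 : ∀ x : Fin m, single x ⟨0, h0⟩ (1 : K) ∈ 𝓢 := by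
    refine path_mem (K := K) 𝓢 (fun M => pth K m * M) (fun M hM => ?_) _ (fun i => ?_) (fun _ => hE)
    · have : f M = M := hM
      change f (pth K m * M) = pth K m * M
      rw [map_mul, hP, this]
    · exact mul_single_eq _ _ _
  have h2 : ∀ x : Fin m, single ⟨0, h0⟩ x (1 : K) ∈ 𝓢 := by
    refine path_mem (K := K) 𝓢 (fun M => M * pth K m) (fun M hM => ?_) (fun x => single (⟨0, h0⟩ : Fin m) x (1 : K))
      (fun i => ?_) (fun _ => hE)
    · have : f M = M := hM
      change f (M * pth K m) = M * pth K m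
      rw [map_mul, hP, this]
    · rw [single_mul_eq]
      exact Finset.sum_congr rfl fun k _ => by rw [pth_symm]
  have e : single x y (1 : K) = single x ⟨0, h0⟩ 1 * single ⟨0, h0⟩ y 1 := by
    rw [single_mul_single_same, one_mul]
  have h3 : f (single x ⟨0, h0⟩ 1) = single x ⟨0, h0⟩ 1 := h1 x
  have h4 : f (single ⟨0, h0⟩ y 1) = single ⟨0, h0⟩ y 1 := h2 y
  rw [e, map_mul, h3, h4]

/-- the consequences of a relation for the idempotent `E₀₀` -/
theorem idem_rel {X : Type*} [Fintype X] [DecidableEq X] {x y : X} (hxy : x ≠ y)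
    {f : Matrix X X K →+* Matrix X X K} {c β : K} (hc : c ≠ 0)
    (h : c • f (single x x 1) = single x x 1 + β • 1) :
    (c = 1 ∧ β = 0 ∧ f (single x x 1) = single x x 1) ∨ (c = -1 ∧ β = -1 ∧ f (single x x 1) = 1 - single x x 1) := by
  have h1 : (c • f (single x x 1)) * (c • f (single x x 1)) = c • (c • f (single x x 1)) := by
    rw [smul_mul_smul_comm, ← map_mul, single_mul_single_same, one_mul, mul_smul]
  rw [h] at h1
  have h2 : (single x x (1 : K) + β • (1 : Matrix X X K)) * (single x x (1 : K) + β • (1 : Matrix X X K)) =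
      single x x (1 : K) + (2 * β) • single x x (1 : K) + (β * β) • (1 : Matrix X X K) := by
    rw [add_mul, mul_add, mul_add, single_mul_single_same, one_mul, mul_smul_comm, Matrix.mul_one, smul_mul_assoc,
      Matrix.one_mul, smul_mul_smul_comm, Matrix.one_mul, two_mul, add_smul]
    abel
  rw [h2] at h1
  have hyy := congrFun (congrFun h1 y) y
  have hxx := congrFun (congrFun h1 x) x
  simp only [Matrix.add_apply, Matrix.smul_apply, smul_eq_mul, one_apply_eq, mul_one, single_apply_same,
    single_apply_of_row_ne hxy, mul_zero, zero_add] at hyy hxx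
  by_cases hβ : β = 0
  · subst hβ
    have hc1 : c = 1 := by
      simp only [mul_zero, add_zero, mul_one] at hxx
      exact hxx.symm
    left
    refine ⟨hc1, rfl, ?_⟩
    rw [hc1, one_smul, zero_smul, add_zero] at h
    exact h
  · have hcb : β = c := mul_right_cancel₀ hβ hyy
    subst hcb
    have h3 : (1 + β) = 0 := by linear_combination hxx
    have h4 : β = -1 := by linear_combination h3
    right
    refine ⟨h4, h4, ?_⟩
    rw [h4, neg_one_smul, neg_one_smul] at h
    rw [← neg_neg (f (single x x 1)), h]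
    abel

theorem corner {X : Type*} [Fintype X] [DecidableEq X] {x : X} {f : Matrix X X K →+* Matrix X X K}
    (hE : f (single x x 1) = single x x 1) {σ : K ≃+* K} (hs : ∀ (k : K) M, f (k • M) = σ k • f M)
    {c β : K} {M : Matrix X X K} (h : c • f M = M + β • 1) : c * σ (M x x) = M x x + β := by
  have h1 := congrArg (fun Z => single x x (1 : K) * Z * single x x (1 : K)) h
  simp only [mul_smul_comm, smul_mul_assoc, mul_add, add_mul, Matrix.mul_one, single_mul_single_same] at h1
  have h2 : single x x (1 : K) * f M * single x x (1 : K) = σ (M x x) • single x x (1 : K) := by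
    rw [← hE, ← map_mul, ← map_mul, sandwich, hs]
  rw [h2, sandwich] at h1
  have h3 := congrFun (congrFun h1 x) x
  simpa using h3

include hu in
theorem sideA {ω ω' : K} (hgen : ∀ σ : K ≃+* K, σ ω = ω → σ = RingEquiv.refl K)
    {fa : Matrix (Fin u) (Fin u) K →+* Matrix (Fin u) (Fin u) K} {σ : K ≃+* K} (hfa : Function.Bijective fa)
    (hs : ∀ (k : K) X, fa (k • X) = σ k • fa X) {c β : Fin 4 → K} (hc : ∀ i, c i ≠ 0)
    (h : ∀ i, c i • fa (BA hu ω ω' i) = BA hu ω ω' i + β i • 1) :
    (∀ i, c i = 1) ∧ σ = RingEquiv.refl K ∧ ∀ X, fa X = X := by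
  set e0 : Fin u := Fin.castLE hu 0 with he0
  set e1 : Fin u := Fin.castLE hu 1 with he1
  set e2 : Fin u := Fin.castLE hu 2 with he2
  have h01 : e0 ≠ e1 := (Fin.castLE_injective hu).ne (by decide)
  have h02 : e0 ≠ e2 := (Fin.castLE_injective hu).ne (by decide)
  have h12 : e1 ≠ e2 := (Fin.castLE_injective hu).ne (by decide)
  have q0 : c 0 • fa (single e0 e0 1) = single e0 e0 1 + β 0 • 1 := h 0
  have q1 : c 1 • fa (pth K u) = pth K u + β 1 • 1 := h 1
  have q2 : c 2 • fa (pth K u + single e0 e0 1) = pth K u + single e0 e0 1 + β 2 • 1 := h 2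
  have q3 : c 3 • fa (single e0 e0 1 + ω • single e0 e1 1 + ω' • single e1 e0 1) =
    single e0 e0 1 + ω • single e0 e1 1 + ω' • single e1 e0 1 + β 3 • 1 := h 3
  have hP00 : pth K u e0 e0 = 0 := by rw [pth_apply, if_neg]; omega
  have hP01 : pth K u e0 e1 = 1 := by
    rw [pth_apply, if_pos]
    left
    simp [he0, he1]
  have hP11 : pth K u e1 e1 = 0 := by rw [pth_apply, if_neg]; omega
  obtain ⟨c0, hE⟩ : c 0 = 1 ∧ fa (single e0 e0 1) = single e0 e0 1 := by
    rcases idem_rel h01 (hc 0) q0 with h' | h'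
    · exact ⟨h'.1, h'.2.2⟩
    exfalso
    obtain ⟨X, hX⟩ := hfa.2 (single e1 e2 1)
    obtain ⟨Y, hY⟩ := hfa.2 (single e2 e1 1)
    have r1 : (single e0 e0 (1 : K) * X * single e0 e0 (1 : K)) * (single e0 e0 (1 : K) * Y * single e0 e0 (1 : K)) =
        (single e0 e0 (1 : K) * Y * single e0 e0 (1 : K)) * (single e0 e0 (1 : K) * X * single e0 e0 (1 : K)) := by
      rw [sandwich, sandwich, smul_mul_smul_comm, smul_mul_smul_comm, mul_comm]
    have r2 := congrArg fa r1
    simp only [map_mul, h'.2.2, hX, hY] at r2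
    have z1 : (1 - single e0 e0 (1 : K)) * single e1 e2 (1 : K) * (1 - single e0 e0 (1 : K)) = single e1 e2 1 := by
      rw [sub_mul, Matrix.one_mul, single_mul_single_of_ne _ _ _ _ h01, sub_zero, mul_sub, Matrix.mul_one,
        single_mul_single_of_ne _ _ _ _ h02.symm, sub_zero]
    have z2 : (1 - single e0 e0 (1 : K)) * single e2 e1 (1 : K) * (1 - single e0 e0 (1 : K)) = single e2 e1 1 := by
      rw [sub_mul, Matrix.one_mul, single_mul_single_of_ne _ _ _ _ h02, sub_zero, mul_sub, Matrix.mul_one,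
        single_mul_single_of_ne _ _ _ _ h01.symm, sub_zero]
    rw [z1, z2, single_mul_single_same, single_mul_single_same] at r2
    have r3 := congrFun (congrFun r2 e1) e1
    simp [h12.symm] at r3
  have b1 : β 1 = 0 := by
    have := corner hE hs q1
    rw [hP00, map_zero, mul_zero, zero_add] at this
    exact this.symm
  rw [b1, zero_smul, add_zero] at q1
  have q2' : c 2 • pth K u + (c 1 * c 2) • single e0 e0 (1 : K) =
      c 1 • pth K u + c 1 • single e0 e0 (1 : K) + (c 1 * β 2) • 1 := by
    have := congrArg (fun Z => c 1 • Z) q2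
    simp only [map_add, hE, smul_add, smul_smul] at this
    rw [mul_comm (c 1) (c 2), mul_smul (c 2) (c 1) (fa (pth K u)), q1, mul_comm (c 2) (c 1)] at this
    exact this
  have w1 := congrFun (congrFun q2' e0) e1
  have w2 := congrFun (congrFun q2' e1) e1
  have w3 := congrFun (congrFun q2' e0) e0
  simp only [Matrix.add_apply, Matrix.smul_apply, smul_eq_mul, one_apply_eq, one_apply_ne h01, mul_one,
    single_apply_same, single_apply_of_row_ne h01, single_apply_of_col_ne _ _ h01, mul_zero, zero_add, add_zero,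
    hP00, hP01, hP11] at w1 w2 w3
  have b2 : β 2 = 0 := (mul_eq_zero.1 w2.symm).resolve_left (hc 1)
  rw [b2, mul_zero, add_zero] at w3
  have c2 : c 2 = 1 := mul_left_cancel₀ (hc 1) (by rw [w3, mul_one])
  have c1 : c 1 = 1 := by rw [← w1, c2]
  rw [c1, one_smul] at q1
  have hfix : ∀ x y, fa (single x y 1) = single x y 1 := pth_fix (by omega) hE q1
  have q3' : c 3 • (single e0 e0 (1 : K) + σ ω • single e0 e1 (1 : K) + σ ω' • single e1 e0 (1 : K)) =
      single e0 e0 1 + ω • single e0 e1 1 + ω' • single e1 e0 1 + β 3 • 1 := by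
    rw [← q3, map_add, map_add, hs, hs, hfix, hfix, hfix]
  have v1 := congrFun (congrFun q3' e0) e0
  have v2 := congrFun (congrFun q3' e0) e1
  have v3 := congrFun (congrFun q3' e2) e2
  simp only [Matrix.add_apply, Matrix.smul_apply, smul_eq_mul, one_apply_eq, one_apply_ne h01, mul_one,
    single_apply_same, single_apply_of_row_ne h02, single_apply_of_row_ne h12,
    single_apply_of_row_ne h01.symm, single_apply_of_col_ne _ _ h01,
    single_apply_of_col_ne _ _ h01.symm, mul_zero, zero_add, add_zero] at v1 v2 v3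
  have c3 : c 3 = 1 := by rw [v1, ← v3, add_zero]
  rw [c3, one_mul] at v2
  have hσ := hgen σ v2
  refine ⟨fun i => ?_, hσ, fix_all (fun k M => by rw [hs, hσ]; rfl) hfix⟩
  fin_cases i
  exacts [c0, c1, c2, c3]

end side

end Cfsg.Agent.H920.FC
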