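import Cfsg.Agent.ClassicalGeometry.HermOrthonormal
import Cfsg.Agent.H920.FC.Path

/-!
# S5764 [B-C4U]: the second tensor factor (helper920)

Skew-hermitian matrices `h₁, …, h₄` of square 0 whose commutant is `K`.
-/

set_option autoImplicit false
set_option linter.unusedSectionVars false

namespace Cfsg.Agent.H920.FC

open Matrix

theorem map_mul_ring {K : Type*} [Field K] (τ : K ≃+* K) {A B C : Type*} [Fintype B] (M : Matrix A B K)
    (N : Matrix B C K) : (M * N).map τ = M.map τ * N.map τ := by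
  ext i j
  simp [mul_apply]

section orth

variable {K : Type*} [Field K] [Finite K] {τ : K ≃+* K} (hτ : ∃ a, τ a ≠ a) (hτ2 : ∀ a, τ (τ a) = a)
  {X J : Type*} [Fintype X] [DecidableEq X] [Fintype J] [DecidableEq J]

/-- the form of a hermitian matrix -/
noncomputable def frm (τ : K ≃+* K) (S : Matrix X X K) : (X → K) →ₛₗ[(τ : K →+* K)] (X → K) →ₗ[K] K :=
  LinearMap.mk₂'ₛₗ (τ : K →+* K) (RingHom.id K) (fun u v => v ⬝ᵥ (S *ᵥ fun x => τ (u x)))
    (fun u u' v => by
      have : (fun x => τ ((u + u') x)) = (fun x => τ (u x)) + fun x => τ (u' x) := by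
        ext x
        simp
      simp only [this, mulVec_add, dotProduct_add])
    (fun c u v => by
      have : (fun x => τ ((c • u) x)) = τ c • fun x => τ (u x) := by
        ext x
        simp
      simp only [this, mulVec_smul, dotProduct_smul]
      rfl)
    (fun u v v' => by simp only [add_dotProduct])
    (fun c u v => by simp only [smul_dotProduct, RingHom.id_apply])

theorem frm_apply (τ : K ≃+* K) (S : Matrix X X K) (u v : X → K) :
    frm τ S u v = v ⬝ᵥ (S *ᵥ fun x => τ (u x)) := rfl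

include hτ hτ2 in
/-- a hermitian invertible matrix is congruent to the identity -/
theorem exists_orth (hc : Fintype.card X = Fintype.card J) {S S' : Matrix X X K} (hS : (S.map τ)ᵀ = S)
    (hnd : S * S' = 1) : ∃ T : Matrix X J K, Tᵀ * (S * T.map τ) = 1 := by
  have hne : (τ : K →+* K) ≠ RingHom.id K := by
    intro h
    obtain ⟨a, ha⟩ := hτ
    exact ha (DFunLike.congr_fun h a)
  have hdot : ∀ u v : X → K, u ⬝ᵥ (S *ᵥ v) = v ⬝ᵥ (S.map τ *ᵥ u) := by
    intro u v
    rw [dotProduct_mulVec, dotProduct_comm, ← mulVec_transpose]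
    congr 2
    rw [← transpose_transpose (S.map τ), hS]
  have hmap : ∀ (v : X → K), (fun x => τ ((S *ᵥ v) x)) = S.map τ *ᵥ fun x => τ (v x) := by
    intro v
    ext x
    simp only [mulVec, dotProduct, map_sum, map_mul, map_apply]
  obtain ⟨β, hβ⟩ := Cfsg.Agent.ClassicalGeometry.HermOrthonormal.exists_orthonormal_basis (σ := (τ : K →+* K)) hne hτ2
    (frm τ S) ⟨fun u v => by
      rw [frm_apply, frm_apply]
      change τ (v ⬝ᵥ (S *ᵥ fun x => τ (u x))) = _
      have e1 : ∀ a b : X → K, τ (a ⬝ᵥ b) = (fun x => τ (a x)) ⬝ᵥ fun x => τ (b x) := by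
        intro a b
        simp only [dotProduct, map_sum, map_mul]
      rw [e1, hmap]
      simp only [hτ2]
      exact (hdot u _).symm⟩ (fun u hu => by
      have h1 : ∀ v : X → K, v ⬝ᵥ (S *ᵥ fun x => τ (u x)) = 0 := fun v => hu v
      have h2 : (S *ᵥ fun x => τ (u x)) = 0 := by
        ext x
        have := h1 (Pi.single x 1)
        rwa [single_dotProduct, one_mul] at this
      have h3 : (fun x => τ (u x)) = 0 := by
        have h4 : S' * S = 1 := mul_eq_one_comm.1 hnd
        have := congrArg (fun w => S' *ᵥ w) h2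
        simpa [mulVec_mulVec, h4] using this
      ext x
      have := congrFun h3 x
      simpa using this)
  have hcard : Fintype.card J = Module.finrank K (X → K) := by rw [Module.finrank_fintype_fun_eq_card, hc]
  let e : J ≃ Fin (Module.finrank K (X → K)) := Fintype.equivFinOfCardEq hcard
  refine ⟨Matrix.of fun x j => β (e j) x, ?_⟩
  ext i j
  have h1 := hβ (e j) (e i)
  rw [frm_apply] at h1
  have h2 : (((Matrix.of fun x j => β (e j) x : Matrix X J K))ᵀ * (S * (Matrix.of fun x j => β (e j) x : Matrix X J K).map τ)) i j =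
      (β (e i)) ⬝ᵥ (S *ᵥ fun x => τ ((β (e j)) x)) := by
    rw [mul_apply]
    rfl
  rw [h2, h1, one_apply]
  by_cases hij : i = j
  · subst hij
    simp
  · rw [if_neg hij, if_neg]
    exact fun h => hij (e.injective h).symm

include hτ hτ2 in
/-- transport of skew matrices to the orthonormal basis -/
theorem exists_theta (hc : Fintype.card X = Fintype.card J) {S : Matrix X X K} (hS1 : S.map τ = S) (hS2 : Sᵀ = S)
    (hSS : S * S = 1) : ∃ Θ : Matrix X X K ≃ₐ[K] Matrix J J K, ∀ h : Matrix X X K,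
      (h.map τ)ᵀ * S = -(S * h) → ((Θ h).map τ)ᵀ = -Θ h := by
  obtain ⟨T, hT⟩ := exists_orth hτ hτ2 (J := J) hc (S := S) (by rw [hS1, hS2]) hSS
  set T' : Matrix J X K := (T.map τ)ᵀ * S with hT'
  have h1 : T' * T = 1 := by
    have := congrArg Matrix.transpose hT
    rwa [transpose_mul, transpose_mul, transpose_transpose, hS2, transpose_one] at this
  have h2 : T * T' = 1 := (mul_eq_one_comm_of_card_eq J X K hc.symm).1 h1
  let Θ : Matrix X X K ≃ₐ[K] Matrix J J K :=
    { toFun := fun M => T' * M * T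
      invFun := fun M => T * M * T'
      left_inv := fun M => by
        change T * (T' * M * T) * T' = M
        rw [Matrix.mul_assoc, Matrix.mul_assoc (T' * M), h2, Matrix.mul_one, ← Matrix.mul_assoc, h2, Matrix.one_mul]
      right_inv := fun M => by
        change T' * (T * M * T') * T = M
        rw [Matrix.mul_assoc, Matrix.mul_assoc (T * M), h1, Matrix.mul_one, ← Matrix.mul_assoc, h1, Matrix.one_mul]
      map_mul' := fun M N => by
        change T' * (M * N) * T = (T' * M * T) * (T' * N * T)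
        rw [Matrix.mul_assoc T' N T, ← Matrix.mul_assoc (T' * M * T) T', Matrix.mul_assoc (T' * M) T T', h2,
          Matrix.mul_one]
        simp only [Matrix.mul_assoc]
      map_add' := fun M N => by
        change T' * (M + N) * T = T' * M * T + T' * N * T
        rw [Matrix.mul_add, Matrix.add_mul]
      commutes' := fun k => by
        change T' * (algebraMap K (Matrix X X K) k) * T = algebraMap K (Matrix J J K) k
        rw [Algebra.algebraMap_eq_smul_one, Algebra.algebraMap_eq_smul_one, Matrix.mul_smul, Matrix.mul_one,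
          Matrix.smul_mul, h1] }
  refine ⟨Θ, fun h hh => ?_⟩
  change ((T' * h * T).map τ)ᵀ = -(T' * h * T)
  have hττ : (T.map τ).map τ = T := by
    ext i j
    simp [hτ2]
  have e1 : (T'.map τ)ᵀ = S * T := by
    rw [hT', map_mul_ring, transpose_mul, hS1, hS2, ← transpose_map, transpose_transpose, hττ]
  rw [map_mul_ring, map_mul_ring, transpose_mul, transpose_mul, e1, ← Matrix.mul_assoc (h.map τ)ᵀ, hh, Matrix.neg_mul, Matrix.mul_neg,
    Matrix.mul_assoc S, ← Matrix.mul_assoc (T.map τ)ᵀ S, ← hT', ← Matrix.mul_assoc]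

end orth

section model

variable {K : Type*} [Field K]

/-- the index set of a hyperbolic basis with `r` further vectors -/
abbrev XX (m r : ℕ) := (Fin m ⊕ Fin m) ⊕ Fin r

/-- the Gram matrix -/
def Sg (K : Type*) [Field K] (m r : ℕ) : Matrix (XX m r) (XX m r) K := fromBlocks (fromBlocks 0 1 1 0) 0 0 1

theorem Sg_sq (m r : ℕ) : Sg K m r * Sg K m r = 1 := by
  simp [Sg, fromBlocks_multiply, fromBlocks_one]

theorem Sg_map (τ : K ≃+* K) (m r : ℕ) : (Sg K m r).map τ = Sg K m r := by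
  simp [Sg, fromBlocks_map]

theorem Sg_transpose (m r : ℕ) : (Sg K m r)ᵀ = Sg K m r := by
  simp [Sg, fromBlocks_transpose]

/-- a block in the upper right corner -/
def bu {m : ℕ} (r : ℕ) (N : Matrix (Fin m) (Fin m) K) : Matrix (XX m r) (XX m r) K :=
  fromBlocks (fromBlocks 0 N 0 0) 0 0 0

/-- a block in the lower left corner -/
def bl {m : ℕ} (r : ℕ) (N : Matrix (Fin m) (Fin m) K) : Matrix (XX m r) (XX m r) K :=
  fromBlocks (fromBlocks 0 0 N 0) 0 0 0

theorem bu_sq {m : ℕ} (r : ℕ) (N : Matrix (Fin m) (Fin m) K) : bu r N * bu r N = 0 := by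
  simp [bu, fromBlocks_multiply]

theorem bl_sq {m : ℕ} (r : ℕ) (N : Matrix (Fin m) (Fin m) K) : bl r N * bl r N = 0 := by
  simp [bl, fromBlocks_multiply]

theorem bu_skew {τ : K ≃+* K} {ε : K} (hε : τ ε = -ε) {m : ℕ} (r : ℕ) {N : Matrix (Fin m) (Fin m) K}
    (hN : (N.map τ)ᵀ = N) : ((ε • bu r N).map τ)ᵀ * Sg K m r = -(Sg K m r * (ε • bu r N)) := by
  have e : (ε • bu r N).map τ = (-ε) • (bu r (N.map τ)) := by
    ext x y
    rw [map_apply, Matrix.smul_apply, Matrix.smul_apply, smul_eq_mul, smul_eq_mul, map_mul, hε]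
    congr 1
    simp only [bu]
    rcases x with (x | x) | x <;> rcases y with (y | y) | y <;> simp
  rw [e, transpose_smul, Matrix.smul_mul, Matrix.mul_smul, neg_smul]
  congr 2
  simp [bu, Sg, fromBlocks_transpose, fromBlocks_multiply, hN]

theorem bl_skew {τ : K ≃+* K} {ε : K} (hε : τ ε = -ε) {m : ℕ} (r : ℕ) {N : Matrix (Fin m) (Fin m) K}
    (hN : (N.map τ)ᵀ = N) : ((ε • bl r N).map τ)ᵀ * Sg K m r = -(Sg K m r * (ε • bl r N)) := by
  have e : (ε • bl r N).map τ = (-ε) • (bl r (N.map τ)) := by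
    ext x y
    rw [map_apply, Matrix.smul_apply, Matrix.smul_apply, smul_eq_mul, smul_eq_mul, map_mul, hε]
    congr 1
    simp only [bl]
    rcases x with (x | x) | x <;> rcases y with (y | y) | y <;> simp
  rw [e, transpose_smul, Matrix.smul_mul, Matrix.mul_smul, neg_smul]
  congr 2
  simp [bl, Sg, fromBlocks_transpose, fromBlocks_multiply, hN]

/-- the vector `w` -/
def wv {m : ℕ} (r : ℕ) (h0 : 0 < m) (γ : K) : XX m r → K :=
  Sum.elim (Sum.elim (Pi.single ⟨0, h0⟩ 1) (Pi.single ⟨0, h0⟩ γ)) 1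

/-- the functional `b(·, w)` -/
def wf {m : ℕ} (r : ℕ) (h0 : 0 < m) (γ : K) : XX m r → K :=
  Sum.elim (Sum.elim (Pi.single ⟨0, h0⟩ γ) (Pi.single ⟨0, h0⟩ 1)) 1

theorem wf_wv {m : ℕ} (r : ℕ) (h0 : 0 < m) (γ γ' : K) : wf r h0 γ' ⬝ᵥ wv r h0 γ = γ' + γ + r := by
  simp [wf, wv, Fintype.sum_sum_type, dotProduct, Pi.single_apply]

theorem w_sq {m : ℕ} (r : ℕ) (h0 : 0 < m) {γ γ' : K} (h : γ' + γ + r = 0) :
    vecMulVec (wv r h0 γ) (wf r h0 γ') * vecMulVec (wv r h0 γ) (wf r h0 γ') = 0 := by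
  rw [vecMulVec_mul_vecMulVec, wf_wv, h]
  simp

theorem Sg_wv {m : ℕ} (r : ℕ) (h0 : 0 < m) (γ : K) : Sg K m r *ᵥ wv r h0 γ = wf r h0 γ := by
  simp only [Sg, wv, wf, fromBlocks_mulVec, Sum.elim_comp_inl, Sum.elim_comp_inr, one_mulVec, zero_mulVec, zero_add,
    add_zero]

theorem wv_Sg {m : ℕ} (r : ℕ) (h0 : 0 < m) (γ : K) : wv r h0 γ ᵥ* Sg K m r = wf r h0 γ := by
  rw [← Sg_wv, ← mulVec_transpose, Sg_transpose]

theorem w_skew {τ : K ≃+* K} (hτ2 : ∀ a, τ (τ a) = a) {ε : K} (hε : τ ε = -ε) {m : ℕ} (r : ℕ) (h0 : 0 < m) (γ : K) :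
    ((ε • vecMulVec (wv r h0 γ) (wf r h0 (τ γ))).map τ)ᵀ * Sg K m r =
      -(Sg K m r * (ε • vecMulVec (wv r h0 γ) (wf r h0 (τ γ)))) := by
  have e1 : ∀ x, τ (wv r h0 γ x) = wv r h0 (τ γ) x := by
    rintro ((x | x) | x)
    · simp only [wv, Sum.elim_inl, Pi.single_apply]
      split_ifs <;> simp
    · simp only [wv, Sum.elim_inl, Sum.elim_inr, Pi.single_apply]
      split_ifs <;> simp
    · simp [wv]
  have e2 : ∀ x, τ (wf r h0 (τ γ) x) = wf r h0 γ x := by
    rintro ((x | x) | x)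
    · simp only [wf, Sum.elim_inl, Pi.single_apply]
      split_ifs <;> simp [hτ2]
    · simp only [wf, Sum.elim_inl, Sum.elim_inr, Pi.single_apply]
      split_ifs <;> simp
    · simp [wf]
  have e : (ε • vecMulVec (wv r h0 γ) (wf r h0 (τ γ))).map τ =
      (-ε) • vecMulVec (wv r h0 (τ γ)) (wf r h0 γ) := by
    ext x y
    rw [map_apply, Matrix.smul_apply, Matrix.smul_apply, smul_eq_mul, smul_eq_mul, map_mul, hε, vecMulVec_apply,
      vecMulVec_apply, map_mul, e1, e2]
  rw [e, transpose_smul, Matrix.smul_mul, Matrix.mul_smul, neg_smul, transpose_vecMulVec, vecMulVec_mul,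
    mul_vecMulVec, Sg_wv, wv_Sg]

/-- the commutant -/
theorem comm_scalar {m r : ℕ} (h0 : 0 < m) (hr : r ≤ 1) {γ γ' : K} {G : Matrix (XX m r) (XX m r) K}
    (g1 : G * bu r 1 = bu r 1 * G) (g2 : G * bl r 1 = bl r 1 * G)
    (g3 : G * bl r (pth K m + 1) = bl r (pth K m + 1) * G)
    (g4 : G * vecMulVec (wv r h0 γ) (wf r h0 γ') = vecMulVec (wv r h0 γ) (wf r h0 γ') * G) : ∃ k : K, G = k • 1 := by
  obtain ⟨A, B, C, D, Q, R, E, rfl⟩ : ∃ (A B C D : Matrix (Fin m) (Fin m) K) (Q : Matrix (Fin m ⊕ Fin m) (Fin r) K)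
      (R : Matrix (Fin r) (Fin m ⊕ Fin m) K) (E : Matrix (Fin r) (Fin r) K),
      G = fromBlocks (fromBlocks A B C D) Q R E :=
    ⟨_, _, _, _, _, _, _, by rw [fromBlocks_toBlocks, fromBlocks_toBlocks]⟩
  simp only [bu, bl, fromBlocks_multiply, Matrix.mul_zero, Matrix.zero_mul, add_zero, zero_add, Matrix.mul_one,
    Matrix.one_mul] at g1 g2 g3
  rw [fromBlocks_inj] at g1 g2 g3
  have hCD := fromBlocks_inj.1 g1.1
  have hBD := fromBlocks_inj.1 g2.1
  have h3 := fromBlocks_inj.1 g3.1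
  obtain rfl : C = 0 := hCD.1.symm
  obtain rfl : B = 0 := hBD.1
  obtain rfl : A = D := hCD.2.1
  have hunit : (fromBlocks 0 1 0 0 : Matrix (Fin m ⊕ Fin m) (Fin m ⊕ Fin m) K) * fromBlocks 0 0 1 0 +
      fromBlocks 0 0 1 0 * fromBlocks 0 1 0 0 = 1 := by
    simp [fromBlocks_multiply, fromBlocks_add, fromBlocks_one]
  obtain rfl : Q = 0 := by
    rw [← Matrix.one_mul Q, ← hunit, Matrix.add_mul, Matrix.mul_assoc, Matrix.mul_assoc, ← g1.2.1, ← g2.2.1]
    simp
  obtain rfl : R = 0 := by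
    rw [← Matrix.mul_one R, ← hunit, Matrix.mul_add, ← Matrix.mul_assoc, ← Matrix.mul_assoc, g1.2.2.1, g2.2.2.1]
    simp
  have hP : A * pth K m = pth K m * A := by
    have := h3.2.2.1
    rw [Matrix.mul_add, Matrix.add_mul, Matrix.mul_one, Matrix.one_mul] at this
    exact add_right_cancel this
  rw [mul_vecMulVec, vecMulVec_mul] at g4
  set k := (wf r h0 γ' ᵥ* fromBlocks (fromBlocks A 0 0 A) 0 0 E) (Sum.inl (Sum.inr ⟨0, h0⟩)) with hk
  have h5 : ∀ x, (fromBlocks (fromBlocks A 0 0 A) 0 0 E *ᵥ wv r h0 γ) x = wv r h0 γ x * k := by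
    intro x
    have := congrFun (congrFun g4 x) (Sum.inl (Sum.inr ⟨0, h0⟩))
    rw [vecMulVec_apply, vecMulVec_apply] at this
    have e : wf r h0 γ' (Sum.inl (Sum.inr ⟨0, h0⟩)) = 1 := by simp [wf]
    rwa [e, mul_one] at this
  have h6 : fromBlocks (fromBlocks A 0 0 A) 0 0 E *ᵥ wv r h0 γ =
      Sum.elim (Sum.elim (A *ᵥ Pi.single ⟨0, h0⟩ 1) (A *ᵥ Pi.single ⟨0, h0⟩ γ)) (E *ᵥ 1) := by
    simp only [wv, fromBlocks_mulVec, Sum.elim_comp_inl, Sum.elim_comp_inr, zero_mulVec, zero_add, add_zero]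
  rw [h6] at h5
  have hA0 : A *ᵥ Pi.single ⟨0, h0⟩ 1 = k • Pi.single ⟨0, h0⟩ 1 := by
    ext x
    have := h5 (Sum.inl (Sum.inl x))
    simp only [wv, Sum.elim_inl] at this
    rw [this, Pi.smul_apply, smul_eq_mul, mul_comm]
  have hE : E = k • 1 := by
    ext x y
    have : Subsingleton (Fin r) := Fin.subsingleton_iff_le_one.2 hr
    obtain rfl := Subsingleton.elim x y
    have := h5 (Sum.inr x)
    simp only [wv, Sum.elim_inr, Pi.one_apply, one_mul, mulVec, dotProduct, mul_one] at this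
    rw [Matrix.smul_apply, one_apply_eq, smul_eq_mul, mul_one, ← this]
    rw [Finset.sum_eq_single x]
    · intro z _ hz
      exact absurd (Subsingleton.elim z x) hz
    · intro h
      exact absurd (Finset.mem_univ _) h
  have hA : ∀ i : Fin m, A *ᵥ Pi.single i 1 = k • Pi.single i 1 := by
    refine path_mem (K := K) (((A.mulVecLin : (Fin m → K) →ₗ[K] (Fin m → K)) : (Fin m → K) →+ (Fin m → K)).eqLocus
      ((k • LinearMap.id : (Fin m → K) →ₗ[K] (Fin m → K)) : (Fin m → K) →+ (Fin m → K))) (fun v => pth K m *ᵥ v)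
      (fun v hv => ?_) (fun i => Pi.single i (1 : K)) (fun i => ?_)
      (fun _ => ?_)
    · have hv' : A *ᵥ v = k • v := hv
      change A *ᵥ (pth K m *ᵥ v) = k • (pth K m *ᵥ v)
      rw [mulVec_mulVec, hP, ← mulVec_mulVec, hv', mulVec_smul]
    · ext x
      simp [Finset.sum_apply, Pi.single_apply]
    · change A *ᵥ Pi.single ⟨0, h0⟩ 1 = k • Pi.single ⟨0, h0⟩ 1
      exact hA0
  have hA' : A = k • 1 := by
    ext x y
    have := congrFun (hA y) x
    rw [mulVec_single_one, Pi.smul_apply, smul_eq_mul] at this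
    rw [Matrix.smul_apply, smul_eq_mul, one_apply]
    change A x y = _
    change A x y = _ at this
    rw [this, Pi.single_apply]
  refine ⟨k, ?_⟩
  rw [hA', hE]
  ext x y
  rcases x with (x | x) | x <;> rcases y with (y | y) | y <;> simp [one_apply]

variable [Finite K] {τ : K ≃+* K} (hτ : ∃ a, τ a ≠ a) (hτ2 : ∀ a, τ (τ a) = a)

include hτ hτ2

theorem exists_eps : ∃ ε : K, ε ≠ 0 ∧ τ ε = -ε := by
  obtain ⟨a, ha⟩ := hτ
  exact ⟨a - τ a, sub_ne_zero.2 (Ne.symm ha), by rw [map_sub, hτ2]; ring⟩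

theorem exists_gamma (r : ℕ) : ∃ γ : K, τ γ + γ + r = 0 := by
  obtain ⟨t, ht⟩ : ∃ t : K, τ t + t ≠ 0 := by
    by_cases h2 : (1 : K) + 1 = 0
    · obtain ⟨a, ha⟩ := hτ
      refine ⟨a, fun h => ha ?_⟩
      have : a + a = 0 := by
        have := congrArg (fun x => a * x) h2
        simpa [mul_add] using this
      rw [eq_neg_of_add_eq_zero_left h, neg_eq_of_add_eq_zero_left this]
    · exact ⟨1, by rwa [map_one]⟩
  refine ⟨-(r : K) * (t * (τ t + t)⁻¹), ?_⟩
  have e : τ (τ t + t) = τ t + t := by rw [map_add, hτ2, add_comm]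
  rw [map_mul, map_neg, map_natCast, map_mul, map_inv₀, e]
  have : -(r : K) * (τ t * (τ t + t)⁻¹) + -(r : K) * (t * (τ t + t)⁻¹) =
    -(r : K) * ((τ t + t) * (τ t + t)⁻¹) := by ring
  rw [this, mul_inv_cancel₀ ht]
  ring

/-- **the four matrices on the second factor** -/
theorem exists_h {J : Type*} [Fintype J] [DecidableEq J] (hJ : 2 ≤ Fintype.card J) :
    ∃ h : Fin 4 → Matrix J J K, (∀ i, h i * h i = 0) ∧ (∀ i, h i ≠ 0) ∧ (∀ i, ((h i).map τ)ᵀ = -h i) ∧
      ∀ G : Matrix J J K, (∀ i, G * h i = h i * G) → ∃ k : K, G = k • 1 := by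
  obtain ⟨ε, hε0, hε⟩ := exists_eps hτ hτ2
  set m := Fintype.card J / 2 with hm
  set r := Fintype.card J % 2 with hr
  obtain ⟨γ, hγ⟩ := exists_gamma hτ hτ2 r
  have h0 : 0 < m := by omega
  have hr1 : r ≤ 1 := by omega
  have hc : Fintype.card (XX m r) = Fintype.card J := by
    simp only [Fintype.card_sum, Fintype.card_fin]
    omega
  obtain ⟨Θ, hΘ⟩ := exists_theta (J := J) hτ hτ2 hc (Sg_map τ m r) (Sg_transpose m r) (Sg_sq m r)
  let g : Fin 4 → Matrix (XX m r) (XX m r) K :=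
    ![ε • bu r 1, ε • bl r 1, ε • bl r (pth K m + 1), ε • vecMulVec (wv r h0 γ) (wf r h0 (τ γ))]
  have hN1 : (((1 : Matrix (Fin m) (Fin m) K)).map τ)ᵀ = 1 := by
    rw [Matrix.map_one _ (map_zero τ) (map_one τ), transpose_one]
  have hNP : ((pth K m + 1).map τ)ᵀ = pth K m + 1 := by
    have e : (pth K m + 1).map τ = (pth K m).map τ + (1 : Matrix (Fin m) (Fin m) K).map τ := by
      ext i j
      simp only [Matrix.map_apply, Matrix.add_apply, map_add]
    rw [e, pth_map, transpose_add, pth_transpose, hN1]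
  have hsq : ∀ i, g i * g i = 0 := by
    intro i
    have e : ∀ M : Matrix (XX m r) (XX m r) K, M * M = 0 → (ε • M) * (ε • M) = 0 := fun M hM => by
      rw [smul_mul_smul_comm, hM, smul_zero]
    fin_cases i
    · exact e _ (bu_sq _ _)
    · exact e _ (bl_sq _ _)
    · exact e _ (bl_sq _ _)
    · exact e _ (w_sq _ _ hγ)
  have hne : ∀ i, g i ≠ 0 := by
    intro i
    have e : ∀ (M : Matrix (XX m r) (XX m r) K) (x y), M x y = 1 → ε • M ≠ 0 := fun M x y hM h => by
      have := congrFun (congrFun h x) y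
      rw [Matrix.smul_apply, hM, smul_eq_mul, mul_one] at this
      exact hε0 this
    fin_cases i
    · exact e _ (Sum.inl (Sum.inl ⟨0, h0⟩)) (Sum.inl (Sum.inr ⟨0, h0⟩)) (by simp [bu])
    · exact e _ (Sum.inl (Sum.inr ⟨0, h0⟩)) (Sum.inl (Sum.inl ⟨0, h0⟩)) (by simp [bl])
    · exact e _ (Sum.inl (Sum.inr ⟨0, h0⟩)) (Sum.inl (Sum.inl ⟨0, h0⟩)) (by simp [bl, pth_apply])
    · exact e _ (Sum.inl (Sum.inl ⟨0, h0⟩)) (Sum.inl (Sum.inr ⟨0, h0⟩)) (by simp [vecMulVec_apply, wv, wf])
  refine ⟨fun i => Θ (g i), fun i => ?_, fun i => ?_, fun i => ?_, fun G hG => ?_⟩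
  · change Θ (g i) * Θ (g i) = 0
    rw [← map_mul, hsq, map_zero]
  · intro h
    exact hne i (Θ.injective (by rw [map_zero]; exact h))
  · refine hΘ _ ?_
    fin_cases i
    · exact bu_skew hε r hN1
    · exact bl_skew hε r hN1
    · exact bl_skew hε r hNP
    · exact w_skew hτ2 hε r h0 γ
  · obtain ⟨H, rfl⟩ := Θ.surjective G
    have h1 : ∀ i, H * g i = g i * H := fun i => Θ.injective (by rw [map_mul, map_mul]; exact hG i)
    have h2 : ∀ M : Matrix (XX m r) (XX m r) K, H * (ε • M) = (ε • M) * H → H * M = M * H := by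
      intro M hM
      rw [Matrix.mul_smul, Matrix.smul_mul] at hM
      exact smul_right_injective _ hε0 hM
    obtain ⟨k, hk⟩ := comm_scalar h0 hr1 (h2 _ (h1 0)) (h2 _ (h1 1)) (h2 _ (h1 2)) (h2 _ (h1 3))
    exact ⟨k, by rw [hk, map_smul, map_one]⟩

end model

section sideC

variable {K : Type*} [Field K] {J : Type*} [Fintype J] [DecidableEq J]

/-- a `K`-linear automorphism fixing matrices with commutant `K` is trivial -/
theorem sideC {ι : Type*} {h : ι → Matrix J J K} (hG : ∀ G : Matrix J J K, (∀ i, G * h i = h i * G) → ∃ k : K, G = k • 1)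
    {fc : Matrix J J K →+* Matrix J J K} (hinj : Function.Injective fc) (hs : ∀ (k : K) X, fc (k • X) = k • fc X)
    (hfix : ∀ i, fc (h i) = h i) (X : Matrix J J K) : fc X = X := by
  classical
  let f : Matrix J J K →ₐ[K] Matrix J J K := AlgHom.ofLinearMap ⟨⟨fc, map_add fc⟩, hs⟩ (map_one fc) (map_mul fc)
  have hbij : Function.Bijective f := ⟨hinj, (LinearMap.injective_iff_surjective (f := f.toLinearMap)).1 hinj⟩
  let F : Matrix J J K ≃ₐ[K] Matrix J J K := AlgEquiv.ofBijective f hbij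
  let L : Matrix J J K ≃ₐ[K] Module.End K (J → K) := Matrix.toLinAlgEquiv'
  obtain ⟨T, hT⟩ := AlgEquiv.eq_linearEquivConjAlgEquiv ((L.symm.trans F).trans L)
  have h1 : ∀ M : Matrix J J K, L (fc M) * (T : Module.End K (J → K)) = (T : Module.End K (J → K)) * L M := by
    intro M
    have h2 : L (F (L.symm (L M))) = T.conjAlgEquiv K (L M) := by rw [← hT]; rfl
    rw [AlgEquiv.symm_apply_apply] at h2
    have h3 : L (fc M) = T.conjAlgEquiv K (L M) := h2
    rw [h3]
    refine LinearMap.ext fun v => ?_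
    simp [LinearEquiv.conjAlgEquiv_apply]
  obtain ⟨k, hk⟩ := hG (L.symm T) (fun i => L.injective (by
    have := h1 (h i)
    rw [hfix] at this
    rw [map_mul, map_mul, AlgEquiv.apply_symm_apply, this]))
  have hT' : (T : Module.End K (J → K)) = k • 1 := by
    have := congrArg L hk
    rwa [AlgEquiv.apply_symm_apply, map_smul, map_one] at this
  apply L.injective
  have h2 : L (fc X) * (T : Module.End K (J → K)) = L X * (T : Module.End K (J → K)) := by
    rw [h1, hT', smul_mul_assoc, mul_smul_comm, one_mul, mul_one]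
  refine LinearMap.ext fun v => ?_
  have h3 := LinearMap.congr_fun h2 (T.symm v)
  simpa using h3

end sideC

end Cfsg.Agent.H920.FC
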