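import Mathlib

/-!
# S5764 [B-C4]: the key lemma for tensor decompositions (helper920)

`A = M_I(K) ⊗ 1`, `C = 1 ⊗ M_J(K)` in `M_{I × J}(K)`; `F` a ring automorphism with `F A = A`.  If `x = 1 + B ⊗ h`,
`h² = 0 ≠ h`, `B` not scalar, and `x F x⁻¹` maps `A` to `A`, then `F h = c h` and `c F B = B + β` for some
`c ≠ 0`, `β` in `K`.
-/

set_option autoImplicit false
set_option linter.unusedSectionVars false

namespace Cfsg.Agent.H920.FC

open Matrix
open scoped Kronecker

section key

variable {K : Type*} [Field K] {I J : Type*} [Fintype I] [DecidableEq I] [Fintype J] [DecidableEq J]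

theorem kron_inj_left [Nonempty J] {B B' : Matrix I I K} (h : B ⊗ₖ (1 : Matrix J J K) = B' ⊗ₖ (1 : Matrix J J K)) :
    B = B' := by
  obtain ⟨j⟩ := ‹Nonempty J›
  ext i k
  have := congrFun (congrFun h (i, j)) (k, j)
  simpa [kroneckerMap_apply] using this

theorem kron_inj_right [Nonempty I] {B B' : Matrix J J K} (h : (1 : Matrix I I K) ⊗ₖ B = (1 : Matrix I I K) ⊗ₖ B') :
    B = B' := by
  obtain ⟨j⟩ := ‹Nonempty I›
  ext i k
  have := congrFun (congrFun h (j, i)) (j, k)
  simpa [kroneckerMap_apply] using this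

theorem exists_scalar_of_comm {B : Matrix I I K} (h : ∀ a, a * B = B * a) : ∃ k : K, B = k • 1 := by
  obtain ⟨k, hk⟩ := mem_range_scalar_iff_commute_single'.2 fun i j => (h (single i j 1) : Commute (single i j 1) B)
  exact ⟨k, by rw [← hk]; ext i j; simp [scalar_apply, diagonal_apply, one_apply]⟩

/-- the centralizer of `M_I(K) ⊗ 1` -/
theorem exists_of_comm [Nonempty I] {X : Matrix (I × J) (I × J) K}
    (h : ∀ a : Matrix I I K, (a ⊗ₖ (1 : Matrix J J K)) * X = X * (a ⊗ₖ (1 : Matrix J J K))) :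
    ∃ c : Matrix J J K, X = (1 : Matrix I I K) ⊗ₖ c := by
  obtain ⟨p⟩ := ‹Nonempty I›
  refine ⟨Matrix.of fun j l => X (p, j) (p, l), ?_⟩
  have key : ∀ q k j l, X (q, j) (k, l) = if q = k then X (p, j) (p, l) else 0 := by
    intro q k j l
    have h1 := congrFun (congrFun (h (single p q 1)) (p, j)) (k, l)
    rw [mul_apply, mul_apply, Fintype.sum_prod_type, Fintype.sum_prod_type] at h1
    simp only [kroneckerMap_apply, single_apply, one_apply] at h1
    rw [Finset.sum_eq_single q, Finset.sum_eq_single j, Finset.sum_eq_single p, Finset.sum_eq_single l] at h1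
    · simpa using h1
    · intro b _ hb
      simp [hb]
    · simp
    · intro b _ hb
      refine Finset.sum_eq_zero fun y _ => ?_
      simp [hb.symm]
    · simp
    · intro b _ hb
      simp [hb.symm]
    · simp
    · intro b _ hb
      refine Finset.sum_eq_zero fun y _ => ?_
      simp [hb.symm]
    · simp
  ext ⟨q, j⟩ ⟨k, l⟩
  rw [key, kroneckerMap_apply, one_apply, of_apply]
  split_ifs <;> simp

/-- the parts of an automorphism preserving `M_I(K) ⊗ 1` -/
theorem exists_parts [Finite K] [Nonempty I] [Nonempty J] (F : Matrix (I × J) (I × J) K ≃+* Matrix (I × J) (I × J) K)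
    (hA : ∀ B : Matrix I I K, ∃ B' : Matrix I I K, F (B ⊗ₖ (1 : Matrix J J K)) = B' ⊗ₖ (1 : Matrix J J K)) :
    ∃ (fa : Matrix I I K →+* Matrix I I K) (fc : Matrix J J K →+* Matrix J J K), Function.Bijective fa ∧
      Function.Injective fc ∧
      (∀ B, F (B ⊗ₖ (1 : Matrix J J K)) = fa B ⊗ₖ (1 : Matrix J J K)) ∧
      (∀ c, F ((1 : Matrix I I K) ⊗ₖ c) = (1 : Matrix I I K) ⊗ₖ fc c) := by
  choose fa0 hfa0 using hA
  let fa : Matrix I I K →+* Matrix I I K :=
    { toFun := fa0
      map_zero' := kron_inj_left (J := J) (by rw [← hfa0, zero_kronecker, map_zero])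
      map_one' := kron_inj_left (J := J) (by rw [← hfa0, one_kronecker_one, map_one])
      map_add' := fun X Y => kron_inj_left (J := J) (by
        rw [← hfa0, add_kronecker, map_add, hfa0, hfa0, add_kronecker])
      map_mul' := fun X Y => kron_inj_left (J := J) (by
        have e : ∀ X Y : Matrix I I K, (X * Y) ⊗ₖ (1 : Matrix J J K) =
          (X ⊗ₖ (1 : Matrix J J K)) * (Y ⊗ₖ (1 : Matrix J J K)) := fun X Y => by
            rw [← mul_kronecker_mul, Matrix.one_mul]
        rw [← hfa0, e, map_mul, hfa0, hfa0, e]) }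
  have hinj : Function.Injective fa := by
    intro X Y hXY
    refine kron_inj_left (J := J) (F.injective ?_)
    rw [hfa0, hfa0]
    exact congrArg (fun Z => Z ⊗ₖ (1 : Matrix J J K)) hXY
  have hsur : Function.Surjective fa := Finite.surjective_of_injective hinj
  have hC : ∀ c : Matrix J J K, ∃ c' : Matrix J J K, F ((1 : Matrix I I K) ⊗ₖ c) = (1 : Matrix I I K) ⊗ₖ c' := by
    intro c
    refine exists_of_comm fun a => ?_
    obtain ⟨a, rfl⟩ := hsur a
    have e : fa a ⊗ₖ (1 : Matrix J J K) = F (a ⊗ₖ (1 : Matrix J J K)) := (hfa0 a).symm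
    rw [e, ← map_mul, ← map_mul, ← mul_kronecker_mul, ← mul_kronecker_mul, Matrix.one_mul, Matrix.mul_one,
      Matrix.one_mul, Matrix.mul_one]
  choose fc0 hfc0 using hC
  let fc : Matrix J J K →+* Matrix J J K :=
    { toFun := fc0
      map_zero' := kron_inj_right (I := I) (by rw [← hfc0, kronecker_zero, map_zero])
      map_one' := kron_inj_right (I := I) (by rw [← hfc0, one_kronecker_one, map_one])
      map_add' := fun X Y => kron_inj_right (I := I) (by
        rw [← hfc0, kronecker_add, map_add, hfc0, hfc0, kronecker_add])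
      map_mul' := fun X Y => kron_inj_right (I := I) (by
        have e : ∀ X Y : Matrix J J K, (1 : Matrix I I K) ⊗ₖ (X * Y) =
          ((1 : Matrix I I K) ⊗ₖ X) * ((1 : Matrix I I K) ⊗ₖ Y) := fun X Y => by
            rw [← mul_kronecker_mul, Matrix.one_mul]
        rw [← hfc0, e, map_mul, hfc0, hfc0, e]) }
  refine ⟨fa, fc, ⟨hinj, hsur⟩, ?_, hfa0, hfc0⟩
  intro X Y hXY
  refine kron_inj_right (I := I) (F.injective ?_)
  rw [hfc0, hfc0]
  exact congrArg (fun Z => (1 : Matrix I I K) ⊗ₖ Z) hXY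

/-- conjugation of `a ⊗ 1` by `1 + B ⊗ h` -/
theorem conj_kron {B : Matrix I I K} {h : Matrix J J K} (hh : h * h = 0) (a : Matrix I I K) :
    (1 - B ⊗ₖ h) * (a ⊗ₖ (1 : Matrix J J K)) * (1 + B ⊗ₖ h) =
      a ⊗ₖ (1 : Matrix J J K) + (a * B - B * a) ⊗ₖ h := by
  rw [sub_mul, Matrix.one_mul, mul_add, Matrix.mul_one, sub_mul, ← mul_kronecker_mul, ← mul_kronecker_mul,
    ← mul_kronecker_mul, Matrix.one_mul, Matrix.mul_one, hh, kronecker_zero, sub_zero, sub_eq_add_neg (a * B),
    add_kronecker]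
  have e : (-(B * a)) ⊗ₖ h = -((B * a) ⊗ₖ h) := by
    ext ⟨i, j⟩ ⟨k, l⟩
    simp [kroneckerMap_apply]
  rw [e]
  abel

/-- the block of a sum of tensors -/
theorem blk {X X' : Matrix I I K} {Y Y' : Matrix I I K} {h h' : Matrix J J K}
    (e : X ⊗ₖ (1 : Matrix J J K) + Y ⊗ₖ h = X' ⊗ₖ (1 : Matrix J J K) + Y' ⊗ₖ h') (i k : I) :
    X i k • (1 : Matrix J J K) + Y i k • h = X' i k • (1 : Matrix J J K) + Y' i k • h' := by
  ext j l
  have := congrFun (congrFun e (i, j)) (k, l)
  simpa [kroneckerMap_apply] using this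

/-- **Key lemma.** -/
theorem key [Finite K] [Nonempty I] [Nonempty J] (F : Matrix (I × J) (I × J) K ≃+* Matrix (I × J) (I × J) K)
    {fa : Matrix I I K →+* Matrix I I K} {fc : Matrix J J K →+* Matrix J J K} (hfa : Function.Bijective fa)
    (hfc : Function.Injective fc) {σ : K ≃+* K} (hσ : ∀ (k : K) X, fa (k • X) = σ k • fa X)
    (hFa : ∀ B, F (B ⊗ₖ (1 : Matrix J J K)) = fa B ⊗ₖ (1 : Matrix J J K))
    (hFc : ∀ c, F ((1 : Matrix I I K) ⊗ₖ c) = (1 : Matrix I I K) ⊗ₖ fc c)
    {B : Matrix I I K} {h : Matrix J J K} (hB : ∀ k : K, B ≠ k • 1) (hh : h * h = 0) (h0 : h ≠ 0)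
    (hx : ∀ a : Matrix I I K, ∃ a' : Matrix I I K, (1 + B ⊗ₖ h) *
      F ((1 - B ⊗ₖ h) * (a ⊗ₖ (1 : Matrix J J K)) * (1 + B ⊗ₖ h)) * (1 - B ⊗ₖ h) = a' ⊗ₖ (1 : Matrix J J K)) :
    ∃ c β : K, c ≠ 0 ∧ fc h = c • h ∧ c • fa B = B + β • 1 := by
  have hN : (B ⊗ₖ h) * (B ⊗ₖ h) = 0 := by rw [← mul_kronecker_mul, hh, kronecker_zero]
  have hinv : (1 - B ⊗ₖ h) * (1 + B ⊗ₖ h) = 1 := by
    rw [sub_mul, mul_add, mul_add, hN]
    simp
  have hF : ∀ (X : Matrix I I K) (Y : Matrix J J K), F (X ⊗ₖ Y) = fa X ⊗ₖ fc Y := by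
    intro X Y
    have e : X ⊗ₖ Y = (X ⊗ₖ (1 : Matrix J J K)) * ((1 : Matrix I I K) ⊗ₖ Y) := by
      rw [← mul_kronecker_mul, Matrix.one_mul, Matrix.mul_one]
    rw [e, map_mul, hFa, hFc, ← mul_kronecker_mul, Matrix.one_mul, Matrix.mul_one]
  -- the equation in the blocks
  have heq : ∀ b : Matrix I I K, ∃ a' : Matrix I I K, ∀ i k : I,
      b i k • (1 : Matrix J J K) + (b * fa B - fa B * b) i k • fc h =
        a' i k • (1 : Matrix J J K) + (a' * B - B * a') i k • h := by
    intro b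
    obtain ⟨a, rfl⟩ := hfa.2 b
    obtain ⟨a', ha'⟩ := hx a
    refine ⟨a', fun i k => blk ?_ i k⟩
    rw [conj_kron hh] at ha'
    rw [← conj_kron hh a', ← ha', map_add, hFa, hF, map_sub, map_mul, map_mul]
    have e : ∀ Z : Matrix (I × J) (I × J) K, (1 - B ⊗ₖ h) * ((1 + B ⊗ₖ h) * Z * (1 - B ⊗ₖ h)) * (1 + B ⊗ₖ h) = Z := by
      intro Z
      rw [mul_assoc, mul_assoc, hinv, mul_assoc, ← mul_assoc, hinv]
      simp
    rw [e]
  have hh' : fc h * fc h = 0 := by rw [← map_mul, hh, map_zero]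
  have hc0 : fc h ≠ 0 := fun h' => h0 (hfc (by rw [h', map_zero]))
  -- `fa B` is not central
  obtain ⟨b, hb⟩ : ∃ b, b * fa B ≠ fa B * b := by
    by_contra hcon
    push Not at hcon
    obtain ⟨k, hk⟩ := exists_scalar_of_comm hcon
    refine hB (σ.symm k) (hfa.1 ?_)
    rw [hk, hσ, RingEquiv.apply_symm_apply, map_one]
  obtain ⟨i, k, hik⟩ : ∃ i k, (b * fa B - fa B * b) i k ≠ 0 := by
    by_contra hcon
    push Not at hcon
    exact hb (sub_eq_zero.1 (Matrix.ext hcon))
  obtain ⟨a', ha'⟩ := heq b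
  have h1 := ha' i k
  set t := (b * fa B - fa B * b) i k with ht
  obtain ⟨s, c, hsc⟩ : ∃ s c : K, fc h = s • 1 + c • h := by
    refine ⟨t⁻¹ * (a' i k - b i k), t⁻¹ * (a' * B - B * a') i k, ?_⟩
    have h2 : t • fc h = (a' i k - b i k) • (1 : Matrix J J K) + (a' * B - B * a') i k • h := by
      rw [sub_smul, sub_add_eq_add_sub, ← h1]
      abel
    rw [mul_smul, mul_smul, ← smul_add, ← h2, smul_smul, inv_mul_cancel₀ hik, one_smul]
  have hs : s = 0 := by
    by_contra hs
    have h3 : fc h - s • 1 = c • h := by rw [hsc]; abel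
    have h4 : (fc h - s • 1) * (fc h - s • 1) = 0 := by
      rw [h3, smul_mul_smul_comm, hh, smul_zero]
    have h5 : s • s • (1 : Matrix J J K) = (2 * s) • fc h := by
      have : (fc h - s • (1 : Matrix J J K)) * (fc h - s • (1 : Matrix J J K)) =
          fc h * fc h - (2 * s) • fc h + s • s • (1 : Matrix J J K) := by
        rw [sub_mul, mul_sub, mul_sub]
        simp only [smul_mul_assoc, mul_smul_comm, Matrix.one_mul, Matrix.mul_one]
        rw [two_mul, add_smul]
        abel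
      rw [this, hh', zero_sub, neg_add_eq_zero] at h4
      exact h4.symm
    have h6 : (s • s • (1 : Matrix J J K)) * fc h = 0 := by
      rw [h5, smul_mul_assoc, hh', smul_zero]
    rw [smul_smul, smul_mul_assoc, Matrix.one_mul] at h6
    exact (smul_ne_zero (mul_ne_zero hs hs) hc0) h6
  rw [hs, zero_smul, zero_add] at hsc
  have hc : c ≠ 0 := by
    rintro rfl
    rw [zero_smul] at hsc
    exact hc0 hsc
  -- comparison of the coefficients
  have hcoef : ∀ x y : K, x • (1 : Matrix J J K) + y • h = 0 → x = 0 ∧ y = 0 := by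
    intro x y hxy
    have h2 : x • h = 0 := by
      have := congrArg (fun Z => Z * h) hxy
      simpa [add_mul, smul_mul_assoc, hh] using this
    have hx0 : x = 0 := (smul_eq_zero.1 h2).resolve_right h0
    refine ⟨hx0, ?_⟩
    rw [hx0, zero_smul, zero_add] at hxy
    exact (smul_eq_zero.1 hxy).resolve_right h0
  have hcomm : ∀ b, b * (c • fa B - B) = (c • fa B - B) * b := by
    intro b
    obtain ⟨a', ha'⟩ := heq b
    have h2 : ∀ i k, b i k = a' i k ∧ (c • (b * fa B - fa B * b)) i k = (a' * B - B * a') i k := by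
      intro i k
      have h3 := ha' i k
      rw [hsc] at h3
      have h4 := hcoef (b i k - a' i k) (c * (b * fa B - fa B * b) i k - (a' * B - B * a') i k) (by
        rw [sub_smul, sub_smul, mul_comm c, mul_smul]
        have : b i k • (1 : Matrix J J K) - a' i k • (1 : Matrix J J K) +
          ((b * fa B - fa B * b) i k • c • h - (a' * B - B * a') i k • h) =
            (b i k • (1 : Matrix J J K) + (b * fa B - fa B * b) i k • c • h) -
              (a' i k • (1 : Matrix J J K) + (a' * B - B * a') i k • h) := by abel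
        rw [this, h3, sub_self])
      refine ⟨sub_eq_zero.1 h4.1, ?_⟩
      rw [Matrix.smul_apply, smul_eq_mul]
      exact sub_eq_zero.1 h4.2
    have e1 : b = a' := Matrix.ext fun i k => (h2 i k).1
    have e2 : c • (b * fa B - fa B * b) = a' * B - B * a' := Matrix.ext fun i k => (h2 i k).2
    rw [← e1] at e2
    rw [mul_sub, sub_mul, mul_smul_comm, smul_mul_assoc, sub_eq_sub_iff_sub_eq_sub, ← smul_sub]
    exact e2
  obtain ⟨β, hβ⟩ := exists_scalar_of_comm hcomm
  exact ⟨c, β, hc, hsc, by rw [← hβ]; abel⟩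

end key

end Cfsg.Agent.H920.FC
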