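import Cfsg.Agent.H412.FC.BBridge
import Cfsg.Agent.H567.FC.ZMap
import Cfsg.Agent.H920.FC.Key

/-!
# S5764 [B-C4]: `FiveB` from four pairs of matrices (helper920)

`Good B h`: an automorphism `fa ⊗ fc` of `M_I(K) ⊗ M_J(K)` with `fc h_i = c_i h_i`, `c_i fa B_i = B_i + β_i` for
`i = 1, …, 4` is trivial.
-/

set_option autoImplicit false
set_option linter.unusedSectionVars false

namespace Cfsg.Agent.H920.FC

open Matrix Cfsg.Agent.H198.FC
open scoped Kronecker

universe u v w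

section good

variable {K : Type u} [Field K] {I J : Type*} [Fintype I] [DecidableEq I] [Fintype J] [DecidableEq J]

/-- the matrix condition -/
def Good (B : Fin 4 → Matrix I I K) (h : Fin 4 → Matrix J J K) : Prop :=
  ∀ (fa : Matrix I I K →+* Matrix I I K) (fc : Matrix J J K →+* Matrix J J K) (σ : K ≃+* K),
    Function.Bijective fa → Function.Injective fc → (∀ (k : K) X, fa (k • X) = σ k • fa X) →
    (∀ (k : K) X, fc (k • X) = σ k • fc X) →
    (∀ i, ∃ c β : K, c ≠ 0 ∧ fc (h i) = c • h i ∧ c • fa (B i) = B i + β • 1) →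
    (∀ X, fa X = X) ∧ (∀ X, fc X = X)

end good

section red

variable {K : Type u} [Field K] {V : Type v} [AddCommGroup V] [Module K V]
  {I J : Type*} [Fintype I] [DecidableEq I] [Fintype J] [DecidableEq J]

/-- a ring automorphism of `R` as a ring automorphism of the matrix algebra -/
def toF (Ψ : Matrix (I × J) (I × J) K ≃ₐ[K] R K V) {f : Equiv.Perm (R K V)} (hf : f ∈ RP K V) :
    Matrix (I × J) (I × J) K ≃+* Matrix (I × J) (I × J) K where
  toFun X := Ψ.symm (f (Ψ X))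
  invFun X := Ψ.symm (f.symm (Ψ X))
  left_inv X := by simp
  right_inv X := by simp
  map_add' X Y := by rw [map_add, hf.1, map_add]
  map_mul' X Y := by rw [map_mul, hf.2, map_mul]

theorem toF_apply (Ψ : Matrix (I × J) (I × J) K ≃ₐ[K] R K V) {f : Equiv.Perm (R K V)} (hf : f ∈ RP K V)
    (X : Matrix (I × J) (I × J) K) : toF Ψ hf X = Ψ.symm (f (Ψ X)) := rfl

/-- the unit `1 + N`, `N² = 0` -/
def un {A : Type*} [Ring A] (N : A) (hN : N * N = 0) : Aˣ where
  val := 1 + N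
  inv := 1 - N
  val_inv := by rw [mul_sub, add_mul, add_mul, hN]; simp
  inv_val := by rw [mul_add, sub_mul, sub_mul, hN]; simp

theorem isom_one_add {b : Cl K V} {N : R K V} (hN : N * N = 0) (hadj : b.Adj N (-N)) : b.Isom (1 + N) := by
  intro v w
  have h1 := hadj v w
  have h2 := hadj v (N w)
  have e1 : (-N : R K V) (N w) = 0 := by
    have : (N * N) w = 0 := by rw [hN]; rfl
    rw [LinearMap.neg_apply]
    change -(N * N) w = 0
    rw [this, neg_zero]
  have e2 : ∀ v, b.B v 0 = 0 := H412.FC.B_zero_right b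
  rw [e1, e2] at h2
  have e3 : b.B v ((-N : R K V) w) = - b.B v (N w) := by
    have := b.add_right v ((-N : R K V) w) (N w)
    rw [LinearMap.neg_apply, neg_add_cancel, e2] at this
    rw [LinearMap.neg_apply]
    exact (neg_eq_of_add_eq_zero_left this.symm).symm
  change b.B (v + N v) (w + N w) = b.B v w
  rw [b.add_left, b.add_right, b.add_right, h1, h2, e3]
  ring

theorem fiveB_of_good [Finite K] [Module.Finite K V] (b : Cl K V) (hn : 1 ≤ Module.finrank K V)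
    [Nonempty I] [Nonempty J] (Ψ : Matrix (I × J) (I × J) K ≃ₐ[K] R K V) {S : Subgroup (Equiv.Perm (R K V))}
    (hS : S ≤ RB b)
    (hA : ∀ f ∈ S, ∀ B : Matrix I I K, ∃ B' : Matrix I I K,
      f (Ψ (B ⊗ₖ (1 : Matrix J J K))) = Ψ (B' ⊗ₖ (1 : Matrix J J K)))
    (B : Fin 4 → Matrix I I K) (h : Fin 4 → Matrix J J K) (hB : ∀ i (k : K), B i ≠ k • 1)
    (hh : ∀ i, h i * h i = 0) (h0 : ∀ i, h i ≠ 0)
    (hadj : ∀ i, b.Adj (Ψ (B i ⊗ₖ h i)) (-Ψ (B i ⊗ₖ h i))) (hG : Good B h) : FiveB b S := by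
  have hNN : ∀ i, (B i ⊗ₖ h i) * (B i ⊗ₖ h i) = 0 := fun i => by
    rw [← mul_kronecker_mul, hh, kronecker_zero]
  have hN : ∀ i, Ψ (B i ⊗ₖ h i) * Ψ (B i ⊗ₖ h i) = 0 := fun i => by
    rw [← map_mul, hNN, map_zero]
  refine ⟨fun i => un (Ψ (B i ⊗ₖ h i)) (hN i), fun i => H567.FC.det_one_add (hN i), fun i =>
    isom_one_add (hN i) (hadj i), fun f hf hi => ?_⟩
  have hfR := (hS hf).1
  obtain ⟨g, σ, μ, -, -, hgs, -, hgf⟩ := H412.FC.stmtBSN K V b hn f (hS hf)
  obtain ⟨fa, fc, hfa, hfc, hFa, hFc⟩ := exists_parts (toF Ψ hfR) (fun B => by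
    obtain ⟨B', hB'⟩ := hA f hf B
    exact ⟨B', by rw [toF_apply, hB', AlgEquiv.symm_apply_apply]⟩)
  have hFs : ∀ (k : K) X, toF Ψ hfR (k • X) = σ k • toF Ψ hfR X := by
    intro k X
    rw [toF_apply, toF_apply, ← map_smul]
    congr 1
    refine LinearMap.ext fun v => ?_
    obtain ⟨w, rfl⟩ := g.surjective v
    rw [hgf, LinearMap.smul_apply, hgf, map_smul, LinearMap.smul_apply, hgs]
  have hsa : ∀ (k : K) X, fa (k • X) = σ k • fa X := fun k X => kron_inj_left (J := J) (by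
    rw [smul_kronecker, ← hFa, ← hFa, smul_kronecker, hFs])
  have hsc : ∀ (k : K) X, fc (k • X) = σ k • fc X := fun k X => kron_inj_right (I := I) (by
    rw [kronecker_smul, ← hFc, ← hFc, kronecker_smul, hFs])
  have hres := hG fa fc σ hfa hfc hsa hsc (fun i => by
    refine key (toF Ψ hfR) hfa hfc hsa hFa hFc (hB i) (hh i) (h0 i) fun a => ?_
    obtain ⟨a', ha'⟩ := hA _ (hi i) a
    refine ⟨a', ?_⟩
    have e : ((cj K V (un (Ψ (B i ⊗ₖ h i)) (hN i))) * f * (cj K V (un (Ψ (B i ⊗ₖ h i)) (hN i)))⁻¹)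
        (Ψ (a ⊗ₖ (1 : Matrix J J K))) = (1 + Ψ (B i ⊗ₖ h i)) * f ((1 - Ψ (B i ⊗ₖ h i)) *
          Ψ (a ⊗ₖ (1 : Matrix J J K)) * (1 + Ψ (B i ⊗ₖ h i))) * (1 - Ψ (B i ⊗ₖ h i)) := by
      rw [Equiv.Perm.mul_apply, Equiv.Perm.mul_apply, ← map_inv, cj_apply, cj_apply, inv_inv]
      rfl
    rw [e] at ha'
    have e2 : Ψ ((1 - B i ⊗ₖ h i) * (a ⊗ₖ (1 : Matrix J J K)) * (1 + B i ⊗ₖ h i)) = (1 - Ψ (B i ⊗ₖ h i)) *
        Ψ (a ⊗ₖ (1 : Matrix J J K)) * (1 + Ψ (B i ⊗ₖ h i)) := by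
      rw [map_mul, map_mul, map_add, map_sub, map_one]
    apply Ψ.injective
    rw [← ha', map_mul, map_mul, toF_apply, AlgEquiv.apply_symm_apply, e2, map_add, map_sub, map_one])
  refine Equiv.ext fun X => ?_
  obtain ⟨Y, rfl⟩ := Ψ.surjective X
  have hY : toF Ψ hfR Y = Y := by
    have h1 : ∀ (a : Matrix I I K) (c : Matrix J J K), toF Ψ hfR (a ⊗ₖ c) = a ⊗ₖ c := by
      intro a c
      have e : a ⊗ₖ c = (a ⊗ₖ (1 : Matrix J J K)) * ((1 : Matrix I I K) ⊗ₖ c) := by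
        rw [← mul_kronecker_mul, Matrix.one_mul, Matrix.mul_one]
      rw [e, map_mul, hFa, hFc, hres.1, hres.2]
    have h2 : Y = ∑ i : I, ∑ k : I, ∑ j : J, ∑ l : J,
        (single i k (1 : K)) ⊗ₖ (single j l (Y (i, j) (k, l))) := by
      ext ⟨i, j⟩ ⟨k, l⟩
      simp only [Matrix.sum_apply, kroneckerMap_apply, single_apply]
      rw [Finset.sum_eq_single i, Finset.sum_eq_single k, Finset.sum_eq_single j, Finset.sum_eq_single l]
      · simp
      · intro x _ hx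
        simp [hx]
      · simp
      · intro x _ hx
        refine Finset.sum_eq_zero fun y _ => ?_
        simp [hx]
      · simp
      · intro x _ hx
        refine Finset.sum_eq_zero fun y _ => Finset.sum_eq_zero fun z _ => ?_
        simp [hx]
      · simp
      · intro x _ hx
        refine Finset.sum_eq_zero fun y _ => Finset.sum_eq_zero fun z _ => Finset.sum_eq_zero fun t _ => ?_
        simp [hx]
      · simp
    rw [h2]
    simp only [map_sum, h1]
  rw [toF_apply] at hY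
  have := congrArg Ψ hY
  rwa [AlgEquiv.apply_symm_apply] at this

/-- an automorphism stabilizing `Ψ(M_I(K) ⊗ 1)` stabilizes `Ψ(1 ⊗ M_J(K))` -/
theorem stab_right [Finite K] [Nonempty I] [Nonempty J] (Ψ : Matrix (I × J) (I × J) K ≃ₐ[K] R K V)
    {f : Equiv.Perm (R K V)} (hf : f ∈ RP K V)
    (hA : ∀ B : Matrix I I K, ∃ B' : Matrix I I K,
      f (Ψ (B ⊗ₖ (1 : Matrix J J K))) = Ψ (B' ⊗ₖ (1 : Matrix J J K))) (c : Matrix J J K) :
    ∃ c' : Matrix J J K, f (Ψ ((1 : Matrix I I K) ⊗ₖ c)) = Ψ ((1 : Matrix I I K) ⊗ₖ c') := by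
  obtain ⟨fa, fc, hfa, hfc, hFa, hFc⟩ := exists_parts (toF Ψ hf) (fun B => by
    obtain ⟨B', hB'⟩ := hA B
    exact ⟨B', by rw [toF_apply, hB', AlgEquiv.symm_apply_apply]⟩)
  refine ⟨fc c, ?_⟩
  rw [← hFc, toF_apply, AlgEquiv.apply_symm_apply]

end red

end Cfsg.Agent.H920.FC
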